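import Cfsg.Agent.H408.HT.RankOne
import Cfsg.Agent.H664.R1.U3Deg

/-!
# The rank one data of `PSU(3,q)` (helper408, S4933, box R1)
-/

set_option autoImplicit false
set_option linter.unusedSectionVars false
set_option linter.unusedSimpArgs false

namespace Cfsg.Agent.H408.HT

open Cfsg Subgroup Cfsg.Agent.H664.R1 Cfsg.Agent.H664.R1.U3 Cfsg.Agent.LieClassical.HermBasic Matrix

variable {F : Type*} [Field F] {σ : F →+* F} [hσ : Fact (∀ x, σ (σ x) = x)]

theorem e01_mul {g g' : GUJ σ} (hg : g ∈ Un σ) (hg' : g' ∈ Un σ) :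
    mat σ (g * g') 0 1 = mat σ g 0 1 + mat σ g' 0 1 := by
  obtain ⟨a, b, h, rfl⟩ := exists_un hg
  obtain ⟨a', b', h', rfl⟩ := exists_un hg'
  rw [mat_mul, mat_un, mat_un]
  simp [Matrix.mul_apply, Fin.sum_univ_three, add_comm]

theorem e01_inv {g : GUJ σ} (hg : g ∈ Un σ) : mat σ g⁻¹ 0 1 = - mat σ g 0 1 := by
  have h1 := e01_mul hg ((Un σ).inv_mem hg)
  rw [mul_inv_cancel, mat_one] at h1
  have h2 : (1 : Matrix (Fin 3) (Fin 3) F) 0 1 = 0 := by simp
  rw [h2] at h1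
  exact (neg_eq_of_add_eq_zero_right h1.symm).symm

variable [Fintype F] {q : ℕ}

theorem pr_mem_XP {g : GUJ σ} (hg : g ∈ Un σ) : pr σ g ∈ XP σ ↔ mat σ g 0 1 = 0 := by
  constructor
  · rintro ⟨z, hz, h1⟩
    have h2 : z⁻¹ * g ∈ Sc σ := by
      rw [← QuotientGroup.ker_mk' (Sc σ), MonoidHom.mem_ker, map_mul, map_inv]
      exact inv_mul_eq_one.2 h1
    have h3 := Un_disj ((Un σ).mul_mem ((Un σ).inv_mem hz.1) hg) h2
    rw [inv_mul_eq_one] at h3
    rw [← h3]
    exact hz.2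
  · intro h
    exact ⟨g, ⟨hg, h⟩, rfl⟩

/-- an element of norm one which is no cube root of unity -/
theorem exists_norm_one (hF : Fintype.card F = q ^ 2) (hq : 3 ≤ q) (hs : ∀ x, σ x = x ^ q) :
    ∃ t : F, t * σ t = 1 ∧ t ^ 3 ≠ 1 := by
  obtain ⟨γ, hγ⟩ := IsCyclic.exists_generator (α := Fˣ)
  have hcard : Nat.card Fˣ = (q + 1) * (q - 1) := card_units_eq hF
  have ho : orderOf γ = (q + 1) * (q - 1) := by
    rw [orderOf_eq_card_of_forall_mem_zpowers hγ, hcard]
  refine ⟨((γ ^ (q - 1) : Fˣ) : F), ?_, ?_⟩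
  · rw [hs, ← pow_succ', ← Units.val_pow_eq_pow_val, ← pow_mul, mul_comm (q - 1), ← hcard]
    rw [pow_card_eq_one', Units.val_one]
  · intro h
    rw [← Units.val_pow_eq_pow_val, ← pow_mul] at h
    have h1 : γ ^ ((q - 1) * 3) = 1 := Units.ext h
    have h2 := orderOf_dvd_of_pow_eq_one h1
    rw [ho, mul_comm (q - 1)] at h2
    have h3 : (q + 1) ∣ 3 := Nat.dvd_of_mul_dvd_mul_right (by omega) h2
    have := Nat.le_of_dvd (by norm_num) h3
    omega

theorem hs_P {t : F} (hF : Fintype.card F = q ^ 2) (hq : 3 ≤ q) (hs : ∀ x, σ x = x ^ q) (ht : t ≠ 0)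
    (htn : t * σ t = 1) (ht3 : t ^ 3 ≠ 1) :
    Hs (spP σ) (XP σ) (pr σ (dg t (σ t / t) ht (dgS_rel ht))) (q + 1) := by
  have hσt : σ t ≠ 0 := (map_ne_zero σ).2 ht
  have hσt' : σ t = t⁻¹ := eq_inv_of_mul_eq_one_right htn
  refine
    { XU := XP_le
      cen := fun x hx u hu => cen hx hu
      com := fun u hu hux x hx => com hF hs hu hux hx
      ne := ?_
      der := ?_
      hT := ⟨_, dg_mem _ _ _ _, rfl⟩
      hm := ?_
      mX := ?_
      hX := ?_
      hU := ?_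
      TU := ?_ }
  · by_contra hno
    push Not at hno
    have h1 : (spP σ).U = XP σ := le_antisymm hno XP_le
    have h2 := card_UP (σ := σ) hF hs
    rw [h1, card_XP (σ := σ) hF hs] at h2
    have h3 : q ^ 1 < q ^ 3 := Nat.pow_lt_pow_right (by omega) (by norm_num)
    rw [pow_one] at h3
    omega
  · rintro _ ⟨u, hu, rfl⟩ _ ⟨v, hv, rfl⟩
    rw [← map_inv, ← map_inv, ← map_mul, ← map_mul, ← map_mul]
    have h1 := (Un σ).mul_mem hu hv
    have h2 := (Un σ).mul_mem h1 ((Un σ).inv_mem hu)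
    rw [pr_mem_XP ((Un σ).mul_mem h2 ((Un σ).inv_mem hv)), e01_mul h2 ((Un σ).inv_mem hv), e01_mul h1 ((Un σ).inv_mem hu),
      e01_mul hu hv, e01_inv hu, e01_inv hv]
    ring
  · rw [← map_pow]
    have h1 : ∀ k : ℕ, mat σ (dg t (σ t / t) ht (dgS_rel ht) ^ k) =
        Matrix.diagonal ![t ^ k, (σ t / t) ^ k, ((σ t)⁻¹) ^ k] := by
      intro k
      induction k with
      | zero =>
        rw [pow_zero, mat_one]
        ext i j
        fin_cases i <;> fin_cases j <;> simp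
      | succ k ih =>
        rw [pow_succ, mat_mul, ih, mat_dg]
        ext i j
        fin_cases i <;> fin_cases j <;> simp [Matrix.mul_apply, Fin.sum_univ_three, Matrix.diagonal, pow_succ]
    have h2 : t ^ (q + 1) = 1 := by
      rw [pow_succ', ← hs]
      exact htn
    have h3 : dg t (σ t / t) ht (dgS_rel ht) ^ (q + 1) = 1 := by
      apply mat_inj
      rw [h1, mat_one, hσt', inv_inv, div_pow, _root_.inv_pow, h2]
      ext i j
      fin_cases i <;> fin_cases j <;> simp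
    rw [h3, map_one]
  · rw [card_XP hF hs]
    exact (Nat.coprime_self_add_right.2 (Nat.coprime_one_right q))
  · intro x hx
    obtain ⟨b, h, rfl⟩ := exists_unX hx
    rw [← mul_inv_eq_iff_eq_mul, ← map_mul, ← map_inv, ← map_mul,
      dg_conj_un t (σ t / t) ht (dgS_rel ht) 0 b h (conj_rel (dgS_rel ht) h)]
    congr 1
    apply mat_inj
    rw [mat_un, mat_un, htn]
    simp
  · rintro _ ⟨u, hu, rfl⟩ h1
    obtain ⟨a, b, h, rfl⟩ := exists_un hu
    rw [← map_inv, ← map_mul, ← map_mul, ← map_inv, ← map_mul,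
      dg_conj_un t (σ t / t) ht (dgS_rel ht) a b h (conj_rel (dgS_rel ht) h),
      pr_mem_XP ((Un σ).mul_mem (un_mem _ _ _) ((Un σ).inv_mem hu)), e01_mul (un_mem _ _ _) ((Un σ).inv_mem hu),
      e01_inv hu, mat_un, mat_un] at h1
    rw [pr_mem_XP hu, mat_un]
    have h2 : t * σ (σ t / t) * a - a = 0 := by
      have := h1
      simpa [sub_eq_add_neg] using this
    have h3 : t * σ (σ t / t) = t ^ 3 := by
      rw [map_div₀, hσ.out, hσt']
      field_simp
    rw [h3] at h2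
    have h4 : (t ^ 3 - 1) * a = 0 := by linear_combination h2
    have h5 : a = 0 := (mul_eq_zero.1 h4).resolve_left (sub_ne_zero.2 ht3)
    simp [h5]
  · rintro _ ⟨g, hg, rfl⟩ h1
    obtain ⟨r, s, hr, hsn, rfl⟩ := exists_dg hg
    obtain ⟨b1, hb1⟩ := exists_snd (σ := σ) hF hs 1
    have h2 := h1 (pr σ (un 1 b1 hb1)) ⟨_, un_mem _ _ _, rfl⟩
    rw [← map_inv, ← map_mul, ← map_mul, ← map_inv, ← map_mul, dg_conj_un r s hr hsn 1 b1 hb1 (conj_rel hsn hb1),
      pr_mem_XP ((Un σ).mul_mem (un_mem _ _ _) ((Un σ).inv_mem (un_mem _ _ _))),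
      e01_mul (un_mem _ _ _) ((Un σ).inv_mem (un_mem _ _ _)), e01_inv (un_mem _ _ _), mat_un, mat_un] at h2
    have h3 : r * σ s - 1 = 0 := by
      have := h2
      simpa [sub_eq_add_neg] using this
    have hs0 : s ≠ 0 := left_ne_zero_of_mul_eq_one hsn
    have h4 : r = s := by
      have h5 : r * σ s = s * σ s := by rw [hsn]; linear_combination h3
      exact mul_right_cancel₀ (right_ne_zero_of_mul_eq_one hsn) h5
    subst h4
    rw [← MonoidHom.mem_ker, QuotientGroup.ker_mk', mem_Sc]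
    refine ⟨hg, ?_, ?_⟩ <;> rw [mat_dg]
    · simp
    · have h6 : r = (σ r)⁻¹ := eq_inv_of_mul_eq_one_left hsn
      simpa using h6

/-- **The rank one data of `S σ ≃* PSU(3,q)`.** -/
theorem exists_hs (hF : Fintype.card F = q ^ 2) (hq : 3 ≤ q) (hs : ∀ x, σ x = x ^ q) :
    ∃ h : S σ, Hs (spS σ) (XS σ) h (q + 1) := by
  obtain ⟨t, htn, ht3⟩ := exists_norm_one (σ := σ) hF hq hs
  have ht : t ≠ 0 := left_ne_zero_of_mul_eq_one htn
  have H := hs_P (σ := σ) hF hq hs ht htn ht3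
  have hh : pr σ (dg t (σ t / t) ht (dgS_rel ht)) ∈ S σ := ⟨_, dgS_mem t ht (dgS_rel ht), rfl⟩
  exact ⟨⟨_, hh⟩, H.res (S σ) U_le_S w_mem_S hh⟩

end Cfsg.Agent.H408.HT
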