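import Cfsg.Agent.H408.HT.Main
import Cfsg.Agent.H408.HT.U3Inst
import Cfsg.Agent.H690.OwnD.Mem
import Cfsg.Agent.S2603

/-!
# S4933, own characteristic, `PSU(3,q)` (helper408, box R1)

* `row_psu3` : `Row p (PSU 3 F q)` for a field `F` of characteristic `p` with `q ^ 2` elements, `q ≥ 3`.
-/

set_option autoImplicit false

namespace Cfsg.Agent.H408.HT

open Cfsg Subgroup Cfsg.Agent.H664.R1 Cfsg.Agent.H664.R1.U3 Cfsg.Agent.H316.HT

theorem card_out_psu {K : Type*} [Field K] [Fintype K] {p f q n : ℕ} [Fact p.Prime] (hf : 1 ≤ f) (hq : q = p ^ f)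
    (hK : Fintype.card K = q ^ 2) (hn : 3 ≤ n) (h32 : ¬ (n = 3 ∧ q = 2)) :
    Nat.card (Cfsg.Out (Cfsg.PSU n K q)) = Nat.gcd n (q + 1) * (2 * f) := by
  obtain ⟨φ, hφ, -, hk⟩ := S2603.result hf hq hK hn h32
  have h1 : Nat.card (Cfsg.Out (Cfsg.PSU n K q) ⧸ φ.ker) = 2 * f := by
    rw [Nat.card_congr (QuotientGroup.quotientKerEquivOfSurjective φ hφ).toEquiv,
      Nat.card_congr Multiplicative.toAdd, Nat.card_zmod]
  rw [Subgroup.card_eq_card_quotient_mul_card_subgroup φ.ker, h1, hk, mul_comm]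

theorem exists_f {p : ℕ} [hp : Fact p.Prime] {F : Type*} [Field F] [Fintype F] [CharP F p] {q : ℕ}
    (hF : Fintype.card F = q ^ 2) : ∃ f : ℕ, 1 ≤ f ∧ q = p ^ f := by
  obtain ⟨m, -, hm⟩ := FiniteField.card F p
  have h1 : q ∣ p ^ (m : ℕ) := by
    rw [← hm, hF, sq]
    exact Dvd.intro _ rfl
  obtain ⟨f, -, hf⟩ := (Nat.dvd_prime_pow hp.out).1 h1
  refine ⟨f, ?_, hf⟩
  by_contra h0
  have : f = 0 := by omega
  rw [this, pow_zero] at hf
  rw [hf, one_pow] at hF
  have := Fintype.one_lt_card (α := F)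
  omega

/-- **Box R1.** -/
theorem row_psu3 {p : ℕ} [hp : Fact p.Prime] {F : Type} [Field F] [Fintype F] [hch : CharP F p] {q : ℕ}
    (hF : Fintype.card F = q ^ 2) (hq : 3 ≤ q) : Row p (PSU 3 F q) := by
  obtain ⟨f, hf, hqf⟩ := exists_f (p := p) hF
  obtain ⟨σ, hσ, hs, ⟨e0⟩⟩ := exists_iso (q := q) hF
  have hlie : ∀ {K : Type} [Group K], Nonempty (K ≃* S σ) → IsLieTypeChar p K := fun {K} _ ⟨e⟩ =>
    Or.inr (Or.inr (Or.inl ⟨F, inferInstance, inferInstance, hch, 3, q, hF, le_rfl, by omega, ⟨e.trans e0.symm⟩⟩))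
  have hfin : Finite (S σ) := inferInstance
  have hsim : IsSimpleGroup (S σ) := H400.LieSimple.isSimple_of_lie (hlie ⟨MulEquiv.refl _⟩)
  obtain ⟨h, H⟩ := exists_hs (σ := σ) hF hq hs
  have cU := card_US (σ := σ) hF hs
  have cX := card_XS (σ := σ) hF hs
  have hpq : p ∣ q := by rw [hqf]; exact dvd_pow_self p (by omega)
  have hX1 : ∃ z ∈ XS σ, z ≠ 1 := by
    by_contra hno
    push Not at hno
    have h1 : XS σ = ⊥ := (Subgroup.eq_bot_iff_forall _).2 hno
    rw [h1, Subgroup.card_bot] at cX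
    omega
  have hna : ¬ IsMulCommutative (S σ) := by
    intro hc
    obtain ⟨u, hu, hux⟩ := H.ne
    obtain ⟨z, hz, hz1⟩ := hX1
    obtain ⟨v, hv, h1⟩ := H.com u hu hux z hz
    apply hz1
    rw [hc.is_comm.comm v u, mul_inv_cancel_right] at h1
    exact mul_eq_left.1 h1.symm
  have hidx : ¬ p ∣ (spS σ).U.index := by
    intro h1
    have h2 : (spS σ).U.index = Nat.card (spS σ).T * (q ^ 3 + 1) := by
      have h3 := (spS σ).U.card_mul_index
      have h4 := (spS σ).card_G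
      rw [(spS σ).card_B, cU] at h4
      rw [h4, cU] at h3
      have h5 : 0 < q ^ 3 := by positivity
      apply Nat.eq_of_mul_eq_mul_left h5
      rw [h3]
      ring
    rw [h2] at h1
    rcases hp.out.dvd_mul.1 h1 with h3 | h3
    · have h4 := h3.trans (card_TS (σ := σ) hF hs)
      have h5 : p ∣ q ^ 2 := hpq.trans (dvd_pow_self q (by norm_num))
      have h6 : 1 ≤ q ^ 2 := Nat.one_le_pow _ _ (by omega)
      have h7 : p ∣ q ^ 2 - (q ^ 2 - 1) := Nat.dvd_sub h5 h4
      rw [Nat.sub_sub_self h6] at h7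
      exact hp.out.one_lt.ne' (Nat.dvd_one.1 h7)
    · have h5 : p ∣ q ^ 3 := hpq.trans (dvd_pow_self q (by norm_num))
      have h7 : p ∣ 1 := (Nat.dvd_add_right h5).1 h3
      exact hp.out.one_lt.ne' (Nat.dvd_one.1 h7)
  have hsq : q ≤ q ^ 2 := Nat.le_self_pow (by norm_num) q
  have hnd : ¬ p ∣ q ^ 2 - q + 1 := by
    intro h1
    have h2 : p ∣ q ^ 2 - q := Nat.dvd_sub (hpq.trans (dvd_pow_self q (by norm_num))) hpq
    have h7 : p ∣ 1 := (Nat.dvd_add_right h2).1 h1
    exact hp.out.one_lt.ne' (Nat.dvd_one.1 h7)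
  have hfac : (q * (q ^ 2 - q + 1)).factorization p = f := by
    rw [Nat.factorization_mul (by omega) (by omega), Finsupp.add_apply, Nat.factorization_eq_zero_of_not_dvd hnd, add_zero,
      hqf, hp.out.factorization_pow]
    simp
  subst hqf
  have hrow : Row p (S σ) := by
    refine H.row_of hf hq cU cX hidx hna ?_ ?_
    · intro K _ _ ⟨e⟩ M hM
      obtain ⟨-, θ, hθ⟩ := exists_red (σ := σ) hF hq hs
      let ψ : IrrCharacter K := ⟨(θ : S σ → ℂ) ∘ e.toMonoidHom, Characters.Core.isIrr_comp e.toMonoidHom e.surjective θ.2⟩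
      have hψ : charDegree (ψ : K → ℂ) = p ^ f * ((p ^ f) ^ 2 - p ^ f + 1) := by
        rw [← hθ]
        exact H681.IP.charDegree_comp e.toMonoidHom (θ : S σ → ℂ)
      have hvd : (charDegree (ψ : K → ℂ)).factorization p = f := by rw [hψ, hfac]
      refine ⟨ψ, ?_, hvd⟩
      by_contra hno
      have h1 := H690.OwnD.dz_own (hlie ⟨e⟩) hM hno
      have h2 : (p ^ f) ^ 3 ∣ Nat.card K := by
        rw [Nat.card_congr e.toEquiv, ← cU]
        exact Subgroup.card_subgroup_dvd_card _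
      have h3 : f * 3 ≤ (Nat.card K).factorization p := by
        rw [← pow_mul] at h2
        exact (hp.out.pow_dvd_iff_le_factorization Nat.card_pos.ne').1 h2
      have h4 := (hp.out.pow_dvd_iff_le_factorization (H686.CharKit.charDegree_pos ψ).ne').1 h1
      rw [hvd] at h4
      omega
    · intro hp2 k hk
      rw [← H934.OutB.card_out_congr e0, card_out_psu hf rfl hF le_rfl (by omega)] at hk
      have h1 : Nat.Coprime (p ^ k) (Nat.gcd 3 (p ^ f + 1)) := by
        apply Nat.Coprime.pow_left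
        rw [Nat.Prime.coprime_iff_not_dvd hp.out]
        intro h2
        have h3 := h2.trans (Nat.gcd_dvd_right _ _)
        exact hp.out.one_lt.ne' (Nat.dvd_one.1 ((Nat.dvd_add_right (dvd_pow_self p (by omega))).1 h3))
      have h2 : Nat.Coprime (p ^ k) 2 := Nat.Coprime.pow_left k ((Nat.coprime_primes hp.out Nat.prime_two).2 hp2)
      exact Nat.le_of_dvd (by omega) (h2.dvd_of_dvd_mul_left (h1.dvd_of_dvd_mul_left hk))
  intro A _ _ N _ ⟨e⟩
  exact hrow A N ⟨e.trans e0⟩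

end Cfsg.Agent.H408.HT
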