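import Cfsg.Agent.H719.HT.CritP
import Cfsg.Agent.H112.HT.Glue

/-!
# S4933: a criterion for `N P / N` metacyclic (helper408)

* `exists_over_le` : an irreducible character over `ψ` of degree at most `|G : H| ψ(1)`;
* `exists_relIndex_le` : `A / N` embeds into `Q`, `Q` has a homomorphism to a cyclic group with kernel of order `k`: there
  is `x ∈ P` with `|N P : N ⟨x⟩| ≤ k`;
* `goodOn_two` : `ψ ∈ B₀(N)` invariant under `P`, the kernel of order `< p ^ 2`, `1 ≤ vd ψ`, `vd ψ + 1 ≤ a`: `GoodOn p a M N`.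
-/

set_option autoImplicit false

open Cfsg Subgroup
open Cfsg.Agent.H316.HT Cfsg.Agent.Characters.Core Cfsg.Agent.Blocks.Basic

namespace Cfsg.Agent.H408.HT

universe u v w

theorem exists_over_le {G : Type u} [Group G] [Finite G] (H : Subgroup G) [Fintype H] (ψ : IrrCharacter H) :
    ∃ ξ : IrrCharacter G, classInner (fun h : H => (ξ : G → ℂ) h) (ψ : H → ℂ) ≠ 0 ∧
      charDegree (ξ : G → ℂ) ≤ H.index * charDegree (ψ : H → ℂ) := by
  classical
  have := Fintype.ofFinite G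
  have := finite_irr (G := G)
  have := Fintype.ofFinite (IrrCharacter G)
  have hθ : IsCharacter G (indFun H (ψ : H → ℂ)) :=
    Characters.Brauer.isCharacter_indFun H (isIrr_isCharacter ψ.2)
  obtain ⟨m, hm⟩ := exists_nat_comb hθ
  have h1 : indFun H (ψ : H → ℂ) 1 = ((H.index * charDegree (ψ : H → ℂ) : ℕ) : ℂ) := by
    rw [Cfsg.Agent.OddOrderCharacters.IndRes.indFun_apply_one, irr_one_eq_charDegree ψ.2, Nat.cast_mul]
  have h2 : ((H.index * charDegree (ψ : H → ℂ) : ℕ) : ℂ) =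
      ((∑ ξ : IrrCharacter G, m ξ * charDegree (ξ : G → ℂ) : ℕ) : ℂ) := by
    rw [← h1, hm, Finset.sum_apply, Nat.cast_sum]
    refine Finset.sum_congr rfl fun ξ _ => ?_
    rw [Pi.smul_apply, nsmul_eq_mul, irr_one_eq_charDegree ξ.2, Nat.cast_mul]
  have h3 : H.index * charDegree (ψ : H → ℂ) = ∑ ξ : IrrCharacter G, m ξ * charDegree (ξ : G → ℂ) := by
    exact_mod_cast h2
  have h4 : 0 < H.index * charDegree (ψ : H → ℂ) :=
    Nat.mul_pos (Nat.pos_of_ne_zero Subgroup.index_ne_zero_of_finite) (H686.CharKit.charDegree_pos ψ)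
  obtain ⟨ξ, -, hξ⟩ : ∃ ξ ∈ (Finset.univ : Finset (IrrCharacter G)), m ξ * charDegree (ξ : G → ℂ) ≠ 0 := by
    by_contra hc
    push Not at hc
    rw [h3, Finset.sum_eq_zero hc] at h4
    exact lt_irrefl _ h4
  have hm0 : m ξ ≠ 0 := fun h => hξ (by rw [h, zero_mul])
  refine ⟨ξ, ?_, ?_⟩
  · intro h0
    have h5 : classInner (indFun H (ψ : H → ℂ)) (ξ : G → ℂ) = m ξ := by
      rw [hm, classInner_sum_nsmul_irr]
    rw [Characters.Brauer.classInner_indFun H _ _ _ (isIrr_isClassFunction ξ.2)] at h5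
    have h6 := classInner_conj_symm (ψ : H → ℂ) (fun h : H => (ξ : G → ℂ) h)
    rw [h5, h0] at h6
    apply hm0
    have h7 : (m ξ : ℂ) = 0 := by simpa using h6
    exact_mod_cast h7
  · rw [h3]
    calc charDegree (ξ : G → ℂ) ≤ m ξ * charDegree (ξ : G → ℂ) := Nat.le_mul_of_pos_left _ (Nat.pos_of_ne_zero hm0)
      _ ≤ _ := Finset.single_le_sum (f := fun ξ : IrrCharacter G => m ξ * charDegree (ξ : G → ℂ))
        (fun _ _ => Nat.zero_le _) (Finset.mem_univ ξ)

theorem card_ker_mul {A : Type u} [Group A] {C : Type v} [Group C] (f : A →* C) (H : Subgroup A) :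
    Nat.card (f.ker.subgroupOf H) * Nat.card (H.map f) = Nat.card H := by
  have h1 := (f.ker.subgroupOf H).card_mul_index
  have h2 : (f.ker.subgroupOf H).index = Nat.card (H.map f) := by
    have h3 : f.ker.subgroupOf H = (f.comp H.subtype).ker := rfl
    rw [h3, Subgroup.index_ker, MonoidHom.range_comp, Subgroup.range_subtype]
  rw [h2] at h1
  exact h1

theorem exists_relIndex_le {A : Type u} [Group A] [Finite A] (N P : Subgroup A) [N.Normal] {Q : Type v} [Group Q]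
    (τ : A →* Q) (hτ : τ.ker = N) {C : Type w} [CommGroup C] [IsCyclic C] (φ : Q →* C) [Finite φ.ker] :
    ∃ x ∈ P, (N ⊔ zpowers x).relIndex (N ⊔ P) ≤ Nat.card φ.ker := by
  classical
  set g : A →* C := φ.comp τ with hg
  obtain ⟨⟨c, hc⟩, hgen⟩ := IsCyclic.exists_generator (α := P.map g)
  obtain ⟨x, hx, rfl⟩ := hc
  refine ⟨x, hx, ?_⟩
  have hNg : N.map g = ⊥ := by
    rw [eq_bot_iff]
    rintro _ ⟨n, hn, rfl⟩
    rw [SetLike.mem_coe, ← hτ, MonoidHom.mem_ker] at hn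
    change φ (τ n) ∈ _
    rw [hn, map_one]
    exact one_mem _
  have hmap : (N ⊔ zpowers x).map g = P.map g := by
    rw [Subgroup.map_sup, hNg, bot_sup_eq, MonoidHom.map_zpowers]
    apply le_antisymm
    · rw [zpowers_le]
      exact ⟨x, hx, rfl⟩
    · intro y hy
      obtain ⟨k, hk⟩ := mem_zpowers_iff.1 (hgen ⟨y, hy⟩)
      exact mem_zpowers_iff.2 ⟨k, congrArg Subtype.val hk⟩
  have hmap2 : (N ⊔ P).map g = P.map g := by
    rw [Subgroup.map_sup, hNg, bot_sup_eq]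
  have e1 := card_ker_mul g (N ⊔ zpowers x)
  have e2 := card_ker_mul g (N ⊔ P)
  rw [hmap] at e1
  rw [hmap2] at e2
  -- the kernel on `N ⊔ P`
  have h1 : Nat.card (g.ker.subgroupOf (N ⊔ P)) ≤ Nat.card N * Nat.card φ.ker := by
    have e3 := card_ker_mul (τ.comp (N ⊔ P).subtype) (g.ker.subgroupOf (N ⊔ P))
    rw [← e3]
    refine Nat.mul_le_mul ?_ ?_
    · refine Nat.card_le_card_of_injective (β := N) (fun y => ⟨((y : g.ker.subgroupOf (N ⊔ P)) : (N ⊔ P : Subgroup A)), ?_⟩) ?_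
      · exact hτ.le y.2
      · intro y z hyz
        have h := congrArg (fun w : N => (w : A)) hyz
        exact Subtype.ext (Subtype.ext (Subtype.ext h))
    · refine Nat.card_mono (Set.toFinite (φ.ker : Set Q)) ?_
      rintro _ ⟨y, hy, rfl⟩
      exact hy
  have h2 : Nat.card N ≤ Nat.card (g.ker.subgroupOf (N ⊔ zpowers x)) := by
    refine Nat.card_le_card_of_injective (fun n => ⟨⟨n, mem_sup_left n.2⟩, ?_⟩) ?_
    · have : (n : A) ∈ τ.ker := by
        rw [hτ]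
        exact n.2
      change φ (τ n) = 1
      rw [MonoidHom.mem_ker.1 this, map_one]
    · intro y z hyz
      apply Subtype.ext
      exact congrArg (fun w : g.ker.subgroupOf (N ⊔ zpowers x) => ((w : (N ⊔ zpowers x : Subgroup A)) : A)) hyz
  have hle : N ⊔ zpowers x ≤ N ⊔ P := sup_le_sup_left ((zpowers_le).2 hx) N
  have h3 : Nat.card (N ⊔ zpowers x : Subgroup A) * (N ⊔ zpowers x).relIndex (N ⊔ P) = Nat.card (N ⊔ P : Subgroup A) := by
    have h4 := ((N ⊔ zpowers x).subgroupOf (N ⊔ P)).card_mul_index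
    rw [Nat.card_congr (Subgroup.subgroupOfEquivOfLe hle).toEquiv] at h4
    exact h4
  have hpos : 0 < Nat.card (N ⊔ zpowers x : Subgroup A) := Nat.card_pos
  refine Nat.le_of_mul_le_mul_left ?_ hpos
  rw [h3, ← e2, ← e1]
  calc Nat.card (g.ker.subgroupOf (N ⊔ P)) * Nat.card (P.map g)
      ≤ Nat.card N * Nat.card φ.ker * Nat.card (P.map g) := Nat.mul_le_mul_right _ h1
    _ ≤ Nat.card (g.ker.subgroupOf (N ⊔ zpowers x)) * Nat.card φ.ker * Nat.card (P.map g) :=
      Nat.mul_le_mul_right _ (Nat.mul_le_mul_right _ h2)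
    _ = _ := by ring

theorem goodOn_two {p : ℕ} [hp : Fact p.Prime] {M : Ideal AlgInt} (hM : IsPModular p M) {A : Type} [Group A] [Finite A]
    (N : Subgroup A) [hNn : N.Normal] (P : Sylow p A) {Q : Type v} [Group Q]
    (τ : A →* Q) (hτ : τ.ker = N) {C : Type w} [CommGroup C] [IsCyclic C] (φ : Q →* C) [Finite φ.ker]
    (hφ : Nat.card φ.ker < p ^ 2) {a : ℕ} (ψ : IrrCharacter N) (hψ : ψ ∈ principalBlock M N)
    (h0 : 0 < vd p (ψ : N → ℂ)) (ha : vd p (ψ : N → ℂ) + 1 ≤ a)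
    (hinv : ∀ x ∈ (P : Subgroup A), ∀ n : N, (ψ : N → ℂ) ⟨x * n * x⁻¹, hNn.conj_mem (n : A) n.2 x⟩ = (ψ : N → ℂ) n) :
    GoodOn p a M N := by
  classical
  have := Fintype.ofFinite A
  have := Fintype.ofFinite N
  obtain ⟨x, hx, hle⟩ := exists_relIndex_le N (P : Subgroup A) τ hτ φ
  have hxP : zpowers x ≤ (P : Subgroup A) := (zpowers_le).2 hx
  have hcyc : IsCyclic ((N ⊔ zpowers x : Subgroup A) ⧸ N.subgroupOf (N ⊔ zpowers x)) := by
    refine H695.LB.Ext.cyc_sup N (zpowers x) ?_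
    exact isCyclic_of_surjective (QuotientGroup.mk' (N.subgroupOf (zpowers x))) (QuotientGroup.mk'_surjective _)
  obtain ⟨ψ', hψ', hr⟩ := H695.LB.Ext.exists_ext_sup hM N (zpowers x) (P.2.to_le hxP) hcyc ψ hψ
    (fun y hy n => hinv y (hxP hy) n)
  obtain ⟨H, hH⟩ : ∃ H : Subgroup A, H = N ⊔ (P : Subgroup A) := ⟨_, rfl⟩
  obtain ⟨Y, hY⟩ : ∃ Y : Subgroup A, Y = N ⊔ zpowers x := ⟨_, rfl⟩
  have hYH : Y ≤ H := by
    rw [hH, hY]
    exact sup_le_sup_left hxP N
  have hNH : N ≤ H := by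
    rw [hH]
    exact le_sup_left
  have hNY : N ≤ Y := by
    rw [hY]
    exact le_sup_left
  rw [← hH, ← hY] at hle
  subst hY
  -- the character of `Y` as a subgroup of `H`
  have := Fintype.ofFinite H
  have := Fintype.ofFinite ↥(N ⊔ zpowers x)
  have := Fintype.ofFinite ↥((N ⊔ zpowers x).subgroupOf H)
  have := Fintype.ofFinite ↥(N.subgroupOf H)
  let e : ↥((N ⊔ zpowers x).subgroupOf H) ≃* ↥(N ⊔ zpowers x) := Subgroup.subgroupOfEquivOfLe hYH
  let ψ₁ : IrrCharacter ↥((N ⊔ zpowers x).subgroupOf H) :=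
    ⟨fun y => (ψ' : ↥(N ⊔ zpowers x) → ℂ) (e y), isIrr_comp e.toMonoidHom e.surjective ψ'.2⟩
  obtain ⟨ξ, hξ, hdeg⟩ := exists_over_le ((N ⊔ zpowers x).subgroupOf H) ψ₁
  -- `ξ` lies over `ψ`
  have hd1 : charDegree (ψ₁ : ↥((N ⊔ zpowers x).subgroupOf H) → ℂ) = charDegree (ψ : N → ℂ) := by
    unfold charDegree
    have h1 := hr 1
    have h2 : (ψ₁ : ↥((N ⊔ zpowers x).subgroupOf H) → ℂ) 1 = (ψ' : ↥(N ⊔ zpowers x) → ℂ) 1 := by
      change (ψ' : ↥(N ⊔ zpowers x) → ℂ) (e 1) = _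
      rw [map_one]
    rw [h2, ← h1]
    rfl
  let eN : ↥(N.subgroupOf H) ≃* N := Subgroup.subgroupOfEquivOfLe hNH
  let ψN : IrrCharacter ↥(N.subgroupOf H) :=
    ⟨fun y => (ψ : N → ℂ) (eN y), isIrr_comp eN.toMonoidHom eN.surjective ψ.2⟩
  have hle' : N.subgroupOf H ≤ (N ⊔ zpowers x).subgroupOf H := fun y hy => hNY hy
  have hov : classInner (fun n : N.subgroupOf H => (ξ : H → ℂ) n) (ψN : N.subgroupOf H → ℂ) ≠ 0 := by
    refine H690.OwnD.over_trans' (N.subgroupOf H) ((N ⊔ zpowers x).subgroupOf H) hle' (isIrr_isCharacter ξ.2) ψ₁.2 ψN.2 hξ ?_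
    have h1 : (fun s : N.subgroupOf H => (ψ₁ : ↥((N ⊔ zpowers x).subgroupOf H) → ℂ) (Subgroup.inclusion hle' s)) =
        (ψN : N.subgroupOf H → ℂ) := by
      funext s
      exact hr (eN s)
    rw [h1, classInner_irr_self ψN.2]
    exact one_ne_zero
  have hdN : charDegree (ψN : ↥(N.subgroupOf H) → ℂ) = charDegree (ψ : N → ℂ) := by
    unfold charDegree
    have h2 : (ψN : ↥(N.subgroupOf H) → ℂ) 1 = (ψ : N → ℂ) 1 := by
      change (ψ : N → ℂ) (eN 1) = _
      rw [map_one]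
    rw [h2]
  have hpos := H686.CharKit.charDegree_pos ψ
  have hposξ := H686.CharKit.charDegree_pos ξ
  obtain ⟨c, hc⟩ := (H596.charDegree_dvd_of_over (N.subgroupOf H) ξ.2 ψN.2 hov).1
  rw [hdN] at hc
  have hc0 : c ≠ 0 := by
    rintro rfl
    rw [mul_zero] at hc
    omega
  have hcle : c ≤ Nat.card φ.ker := by
    have h1 : charDegree (ψ : N → ℂ) * c ≤ charDegree (ψ : N → ℂ) * Nat.card φ.ker := by
      rw [← hc, mul_comm]
      refine hdeg.trans ?_
      rw [hd1]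
      exact Nat.mul_le_mul_right _ hle
    exact Nat.le_of_mul_le_mul_left h1 hpos
  have hvc : c.factorization p ≤ 1 := by
    by_contra hcon
    have h1 : p ^ 2 ∣ c := (hp.out.pow_dvd_iff_le_factorization hc0).2 (by omega)
    have h2 := Nat.le_of_dvd (Nat.pos_of_ne_zero hc0) h1
    omega
  have hvξ : vd p (ξ : H → ℂ) ≤ a := by
    unfold vd at ha ⊢
    rw [hc, Nat.factorization_mul hpos.ne' hc0, Finsupp.add_apply]
    omega
  -- `ξ` is in the principal block
  have hpg : IsPGroup p (H ⧸ N.subgroupOf H) := by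
    have hPH : (P : Subgroup A) ≤ H := by
      rw [hH]
      exact le_sup_right
    let f : (P : Subgroup A) →* H ⧸ N.subgroupOf H := (QuotientGroup.mk' _).comp (Subgroup.inclusion hPH)
    have hfs : Function.Surjective f := by
      intro y
      obtain ⟨⟨y, hy⟩, rfl⟩ := QuotientGroup.mk_surjective y
      have hy' : y ∈ N ⊔ (P : Subgroup A) := hH ▸ hy
      obtain ⟨n, hn, z, hz, rfl⟩ := H695.LB.Ext.exists_mul N (P : Subgroup A) hy'
      refine ⟨⟨z, hz⟩, ?_⟩
      refine QuotientGroup.eq.2 ?_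
      rw [mem_subgroupOf]
      change z⁻¹ * (n * z) ∈ N
      have := hNn.conj_mem n hn z⁻¹
      rwa [inv_inv, mul_assoc] at this
    exact P.2.of_surjective f hfs
  have hMp : M.IsPrime := hM.2.1.isPrime
  have hψN : ψN ∈ principalBlock M ↥(N.subgroupOf H) :=
    H133.PB.mem_principalBlock_comp eN.toMonoidHom eN.surjective hψ
  have hξm : ξ ∈ principalBlock M H := H695.LB.Ext.mem_of_over hM (N.subgroupOf H) hpg ξ hψN hov
  refine H695.LB.Crit.goodOn_of_ext N H hNH (H719.HT.tool hM P H (by rw [hH]; exact le_sup_right)) ψ h0 ξ hξm ?_ hvξ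
  have h1 := Cfsg.Agent.Characters.Clifford.classInner_comp_mulEquiv eN (fun n : N => (ξ : H → ℂ) (Subgroup.inclusion hNH n)) (ψ : N → ℂ)
  rw [← h1]
  exact hov

end Cfsg.Agent.H408.HT
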