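import Cfsg.Agent.H408.HT.RankOne
import Cfsg.Agent.H681.IP.Row
import Cfsg.Agent.H709.HT.IPTwo
import Cfsg.Agent.H362.HT.Over
import Cfsg.Agent.H664.R1.Heis
import Cfsg.Agent.H677.CodPrime
import Cfsg.Agent.H390.Cyc.OutCard

/-!
# The own characteristic row of S4933 for rank one groups with Heisenberg radical (helper408, box R1)
-/

set_option autoImplicit false
set_option linter.unusedSectionVars false

namespace Cfsg.Agent.H408.HT

open Cfsg Subgroup Cfsg.Agent.H664.R1 Cfsg.Agent.H316.HT Cfsg.Agent.H681.IP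
open scoped commutatorElement Pointwise

universe u v

variable {p f : ℕ} [hp : Fact p.Prime] {G : Type v} [Group G] [Finite G]
  {D : Split G} {X : Subgroup G} {h : G} {m : ℕ}

/-- an irreducible character of `U` of degree `|U : X|^(1/2)` -/
theorem Hs.exists_deg (H : Hs D X h m) {q : ℕ} (cU : Nat.card D.U = q ^ 3) (cX : Nat.card X = q) (hq : 3 ≤ q) :
    ∃ θ : IrrCharacter D.U, charDegree (θ : D.U → ℂ) = q := by
  classical
  have := Fintype.ofFinite D.U
  have := Fintype.ofFinite (X.subgroupOf D.U)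
  obtain ⟨z, hz, hz1⟩ : ∃ z ∈ X, z ≠ 1 := by
    by_contra hno
    push Not at hno
    have h1 : X = ⊥ := (Subgroup.eq_bot_iff_forall _).2 hno
    rw [h1, Subgroup.card_bot] at cX
    omega
  obtain ⟨θ, hθ⟩ : ∃ θ : IrrCharacter D.U, (θ : D.U → ℂ) ⟨z, H.XU hz⟩ ≠ (θ : D.U → ℂ) 1 := by
    by_contra hno
    push Not at hno
    have h1 := H686.CharKit.mem_of_forall_chKer (G := D.U) (⊥ : Subgroup D.U) (g := ⟨z, H.XU hz⟩) fun χ _ => hno χ
    rw [mem_bot] at h1
    exact hz1 (congrArg Subtype.val h1)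
  refine ⟨θ, ?_⟩
  have hcard : Nat.card (X.subgroupOf D.U) = q := by
    rw [Nat.card_congr (Subgroup.subgroupOfEquivOfLe H.XU).toEquiv, cX]
  rcases Heis.fixed_or_vanish (P := D.U) (Z := X.subgroupOf D.U)
    (fun z hz g => Subtype.ext (H.cen z hz g g.2))
    (fun u hu z hz => by
      obtain ⟨v, hv, h1⟩ := H.com u u.2 hu z hz
      exact ⟨⟨v, hv⟩, Subtype.ext h1⟩) θ.2 with h1 | ⟨-, h1, -⟩
  · exact absurd (h1 ⟨z, H.XU hz⟩ hz) hθ
  · rw [hcard, cU, ← H686.CharKit.charDegree_irr] at h1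
    have h2 : charDegree (θ : D.U → ℂ) ^ 2 * q = q ^ 2 * q := by
      have h3 : charDegree (θ : D.U → ℂ) ^ 2 * q = q ^ 3 := by exact_mod_cast h1
      rw [h3]
      ring
    have h3 := Nat.eq_of_mul_eq_mul_right (by omega : 0 < q) h2
    exact Nat.pow_left_injective (n := 2) (by norm_num) h3

/-- elements of `U` centralising `U` -/
theorem Hs.mem_X (H : Hs D X h m) (hX1 : ∃ z ∈ X, z ≠ 1) {c : G} (hc : c ∈ D.U) (hcc : ∀ v ∈ D.U, v * c = c * v) :
    c ∈ X := by
  by_contra hno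
  obtain ⟨z, hz, hz1⟩ := hX1
  obtain ⟨v, hv, h1⟩ := H.com c hc hno z hz
  apply hz1
  have h2 : v * c * v⁻¹ = c := by rw [hcc v hv, mul_inv_cancel_right]
  rw [h2] at h1
  exact (mul_eq_left.1 h1.symm)

theorem Hs.row_of [IsSimpleGroup G] (H : Hs D X h m) (hf : 1 ≤ f) (hq : 3 ≤ p ^ f)
    (cU : Nat.card D.U = (p ^ f) ^ 3) (cX : Nat.card X = p ^ f) (hidx : ¬ p ∣ D.U.index) (hna : ¬ IsMulCommutative G)
    (hψ : ∀ (K : Type) [Group K] [Finite K], Nonempty (K ≃* G) → ∀ M : Ideal AlgInt, IsPModular p M →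
      ∃ ψ : IrrCharacter K, ψ ∈ principalBlock M K ∧ vd p (ψ : K → ℂ) = f)
    (hout : p ≠ 2 → ∀ k, p ^ k ∣ Nat.card (Out G) → p ^ k ≤ f) : Row p G := by
  intro A _ _ N hN ⟨e⟩ hC M hM P a ha hcd
  classical
  have hTD : TD p a (P : Subgroup A) := TD.of_CD hcd
  have hX1 : ∃ z ∈ X, z ≠ 1 := by
    by_contra hno
    push Not at hno
    have h1 : X = ⊥ := (Subgroup.eq_bot_iff_forall _).2 hno
    rw [h1, Subgroup.card_bot] at cX
    omega
  have hUp : IsPGroup p D.U := IsPGroup.of_card (n := f * 3) (by rw [cU, ← pow_mul])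
  -- the embedding
  let i0 : G →* A := N.subtype.comp e.symm.toMonoidHom
  have hi0 : Function.Injective i0 := fun a b hab => e.symm.injective (Subtype.val_injective hab)
  have hU0 : IsPGroup p (D.U.map i0) := hUp.map i0
  obtain ⟨Q, hQ⟩ := hU0.exists_le_sylow
  obtain ⟨g, hg⟩ := MulAction.exists_smul_eq A P Q
  let i : G →* A := ((MulAut.conj g⁻¹ : MulAut A) : A →* A).comp i0
  have hid : ∀ x, i x = g⁻¹ * i0 x * g := fun x => by
    show g⁻¹ * i0 x * g⁻¹⁻¹ = _
    rw [inv_inv]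
  have hi : Function.Injective i := fun a b hab => by
    rw [hid, hid] at hab
    exact hi0 (mul_left_cancel (mul_right_cancel hab))
  have hiN : ∀ x, i x ∈ N := fun x => by
    rw [hid]
    have h1 := hN.conj_mem (i0 x) (e.symm x).2 g⁻¹
    rwa [inv_inv] at h1
  have hrange : i.range = N := by
    apply le_antisymm
    · rintro _ ⟨x, rfl⟩
      exact hiN x
    · intro n hn
      have h1 := hN.conj_mem n hn g
      refine ⟨e ⟨_, h1⟩, ?_⟩
      rw [hid]
      show g⁻¹ * (e.symm (e ⟨g * n * g⁻¹, h1⟩) : A) * g = n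
      rw [e.symm_apply_apply]
      group
  have hUP : ∀ u ∈ D.U, i u ∈ (P : Subgroup A) := by
    intro u hu
    have h1 : i0 u ∈ (Q : Subgroup A) := hQ ⟨u, hu, rfl⟩
    rw [← hg] at h1
    have h2 : i0 u ∈ (MulAut.conj g • (P : Subgroup A)) := h1
    rw [Subgroup.mem_pointwise_smul_iff_inv_smul_mem] at h2
    have h3 : (MulAut.conj g)⁻¹ • i0 u = i u := by
      rw [hid, ← map_inv]
      show g⁻¹ * i0 u * g⁻¹⁻¹ = _
      rw [inv_inv]
    rwa [h3] at h2
  have hmapU : D.U.map i = (P : Subgroup A) ⊓ N := by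
    apply Subgroup.eq_of_le_of_card_ge
    · rintro _ ⟨u, hu, rfl⟩
      exact ⟨hUP u hu, hiN u⟩
    · have h1 : Nat.card (D.U.map i) = Nat.card D.U :=
        (Nat.card_congr (D.U.equivMapOfInjective i hi).toEquiv).symm
      have h2 : IsPGroup p ((P : Subgroup A) ⊓ N : Subgroup A) := P.isPGroup'.to_le inf_le_left
      obtain ⟨k, hk⟩ := IsPGroup.iff_card.1 h2
      have h3 : p ^ k ∣ Nat.card G := by
        rw [← hk, ← Nat.card_congr e.toEquiv]
        exact Subgroup.card_dvd_of_le inf_le_right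
      rw [← D.U.card_mul_index] at h3
      have h4 : p ^ k ∣ Nat.card D.U :=
        Nat.Coprime.dvd_of_dvd_mul_right (Nat.Coprime.pow_left k ((Nat.Prime.coprime_iff_not_dvd hp.out).2 hidx)) h3
      rw [h1, hk]
      exact Nat.le_of_dvd Nat.card_pos h4
  have hPN : ∀ y ∈ (P : Subgroup A), y ∈ N → ∃ u ∈ D.U, i u = y := by
    intro y hy hyN
    have h1 : y ∈ D.U.map i := by rw [hmapU]; exact ⟨hy, hyN⟩
    exact h1
  -- the lower bound
  have hfa : f ≤ a := by
    obtain ⟨θ, hθ⟩ := H.exists_deg cU cX hq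
    let j : D.U →* (P : Subgroup A) := (i.comp D.U.subtype).codRestrict _ fun u => hUP u u.2
    have hj : Function.Injective j := fun a b hab => Subtype.ext (hi (congrArg Subtype.val hab))
    have h1 := hTD.le hp.out j hj θ
    rw [hθ] at h1
    exact (Nat.pow_le_pow_iff_right hp.out.one_lt).1 h1
  by_cases hP : (P : Subgroup A) ≤ N
  · -- `P ≤ N`
    obtain ⟨ψ, hψ1, hψ2⟩ := hψ N ⟨e⟩ M hM
    obtain ⟨χ, hχ, hle, hne⟩ := Cfsg.Agent.H362.HT.exists_over hM P N hP ψ hψ1
    have := Fintype.ofFinite N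
    have := Fintype.ofFinite A
    have hne' := hne
    obtain ⟨k, hk⟩ := CharDeep.PowerDegrees.degree_dvd N χ.2 ψ.2 hne'
    have hdeg : charDegree (χ : A → ℂ) = k * charDegree (ψ : N → ℂ) := by
      have h1 : ((charDegree (χ : A → ℂ) : ℕ) : ℂ) = ((k * charDegree (ψ : N → ℂ) : ℕ) : ℂ) := by
        push_cast
        rw [H686.CharKit.charDegree_irr, H686.CharKit.charDegree_irr, hk]
      exact_mod_cast h1
    refine ⟨χ, hχ, ?_, ?_, hle.trans (hψ2.le.trans hfa)⟩
    · by_contra hno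
      push Not at hno
      apply hne'
      have h1 : (fun n : N => (χ : A → ℂ) n) = (χ : A → ℂ) 1 • (1 : N → ℂ) := by
        funext n
        rw [hno n n.2]
        simp
      rw [h1, Characters.Core.classInner_smul_left, Characters.Core.classInner_irr_ne
        Characters.Core.isIrr_one ψ.2, mul_zero]
      intro h2
      have h3 : charDegree (ψ : N → ℂ) = 1 := by
        rw [← h2]
        exact (H686.CharKit.charDegree_eq_one_iff (⟨_, Characters.Core.isIrr_one⟩ : IrrCharacter N)).2 rfl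
      rw [vd, h3, Nat.factorization_one] at hψ2
      simp at hψ2
      omega
    · have h1 : p ∣ charDegree (χ : A → ℂ) := by
        rw [hdeg]
        refine Dvd.dvd.mul_left ?_ k
        apply Nat.dvd_of_factorization_pos
        have : (charDegree (ψ : N → ℂ)).factorization p = f := hψ2
        omega
      exact hp.out.factorization_pos_of_dvd (H686.CharKit.charDegree_pos χ).ne' h1
  · -- `P ≰ N` : impossible
    exfalso
    obtain ⟨x, hxP, hxN⟩ := Set.not_subset.1 hP
    replace hxP : x ∈ (P : Subgroup A) := hxP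
    have hnt : ¬ ∀ u ∈ D.U, ∃ z ∈ X, x * i u * x⁻¹ = i (u * z) := fun h1 => hxN (by
      have h2 : i.range.Normal := by rw [hrange]; exact hN
      have h3 := H.mem_of_triv i hi h2 (by rw [hrange]; exact hC) h1
      rwa [hrange] at h3)
    have hconj : ∀ y ∈ (P : Subgroup A), ∀ u ∈ D.U, ∃ u' ∈ D.U, i u' = y * i u * y⁻¹ := fun y hy u hu =>
      hPN _ ((P : Subgroup A).mul_mem ((P : Subgroup A).mul_mem hy (hUP u hu)) ((P : Subgroup A).inv_mem hy))
        (hN.conj_mem _ (hiN u) y)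
    by_cases h2 : p = 2
    · subst h2
      have ha2 : 2 ≤ a := by
        refine le_trans ?_ hfa
        by_contra hno
        have : f = 1 := by omega
        rw [this] at hq
        omega
      have hcl := Cfsg.Agent.H709.HT.ip_two P.isPGroup' ha2 hTD
      apply hnt
      intro u hu
      obtain ⟨u', hu', hu1⟩ := hconj x hxP u hu
      refine ⟨u⁻¹ * u', H.mem_X hX1 (D.U.mul_mem (D.U.inv_mem hu) hu') fun v hv => ?_, by
        rw [mul_inv_cancel_left, hu1]⟩
      apply hi
      have h3 : ⁅⁅(⟨(i u)⁻¹, (P : Subgroup A).inv_mem (hUP u hu)⟩ : (P : Subgroup A)), (⟨x, hxP⟩ : (P : Subgroup A))⁆,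
          (⟨i v, hUP v hv⟩ : (P : Subgroup A))⁆ ∈
          (⁅⁅(⊤ : Subgroup (P : Subgroup A)), ⊤⁆, ⊤⁆ : Subgroup (P : Subgroup A)) :=
        commutator_mem_commutator (commutator_mem_commutator (mem_top _) (mem_top _)) (mem_top _)
      rw [hcl, mem_bot, commutatorElement_eq_one_iff_mul_comm] at h3
      have h4 := congrArg Subtype.val h3
      have h5 : (i u)⁻¹ * x * (i u)⁻¹⁻¹ * x⁻¹ * i v = i v * ((i u)⁻¹ * x * (i u)⁻¹⁻¹ * x⁻¹) := h4
      have h6 : i (u⁻¹ * u') = (i u)⁻¹ * x * (i u)⁻¹⁻¹ * x⁻¹ := by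
        rw [map_mul, map_inv, hu1]
        group
      rw [map_mul i v (u⁻¹ * u'), map_mul i (u⁻¹ * u') v, h6, h5]
    · -- `p` odd
      let Xh : Subgroup (P : Subgroup A) := (X.map i).subgroupOf P
      have hXh : ∀ y : (P : Subgroup A), y ∈ Xh ↔ ∃ z ∈ X, i z = y := fun y => Iff.rfl
      have hXn : Xh.Normal := ⟨fun y hy w => by
        obtain ⟨z, hz, h1⟩ := (hXh y).1 hy
        obtain ⟨z', hz', h3⟩ := hconj w w.2 z (H.XU hz)
        refine (hXh _).2 ⟨z', H.mem_X hX1 hz' fun v hv => ?_, by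
          rw [h3, h1]
          rfl⟩
        obtain ⟨v', hv', h4⟩ := hconj (w : A)⁻¹ ((P : Subgroup A).inv_mem w.2) v hv
        rw [inv_inv] at h4
        apply hi
        have h5 := congrArg i (H.cen z hz v' hv')
        rw [map_mul, map_mul, h4] at h5
        rw [map_mul, map_mul, h3]
        have h6 : i v * ((w : A) * i z * (w : A)⁻¹) = w * ((w : A)⁻¹ * i v * w * i z) * (w : A)⁻¹ := by group
        rw [h6, h5]
        group⟩
      let Uh : Subgroup (P : Subgroup A) := (D.U.map i).subgroupOf P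
      have hUh : ∀ y : (P : Subgroup A), y ∈ Uh ↔ ∃ z ∈ D.U, i z = y := fun y => Iff.rfl
      have hle : Xh ≤ Uh := fun y hy => by
        obtain ⟨z, hz, h1⟩ := (hXh y).1 hy
        exact (hUh y).2 ⟨z, H.XU hz, h1⟩
      let π : (P : Subgroup A) →* (P : Subgroup A) ⧸ Xh := QuotientGroup.mk' Xh
      have hπ : Function.Surjective π := QuotientGroup.mk'_surjective Xh
      have hTDq := hTD.surj π hπ
      have hna' : ∃ s t : (P : Subgroup A) ⧸ Xh, s * t ≠ t * s := by
        by_contra hno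
        push Not at hno
        apply hnt
        intro u hu
        have h1 := hno (π ⟨x, hxP⟩) (π ⟨i u, hUP u hu⟩)
        rw [← map_mul, ← map_mul] at h1
        have h3 : (⟨x, hxP⟩ * ⟨i u, hUP u hu⟩ : (P : Subgroup A))⁻¹ * (⟨i u, hUP u hu⟩ * ⟨x, hxP⟩) ∈ Xh :=
          QuotientGroup.eq.1 h1
        have h4 := Xh.inv_mem (hXn.conj_mem _ h3 ⟨x, hxP⟩)
        obtain ⟨z, hz, h5⟩ := (hXh _).1 h4
        refine ⟨z, hz, ?_⟩
        rw [map_mul, h5]
        show x * i u * x⁻¹ = i u * (x * ((x * i u)⁻¹ * (i u * x)) * x⁻¹)⁻¹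
        group
      obtain ⟨s, t, hst⟩ := hna'
      obtain ⟨χ, hχ⟩ := hTDq.exists_deg hst
      have hA := H677.CodPrime.charDegree_le_index χ (Uh.map π) (by
        rintro _ ⟨y, hy, rfl⟩ _ ⟨w, hw, rfl⟩
        obtain ⟨u, hu, h1⟩ := (hUh y).1 hy
        obtain ⟨v, hv, h3⟩ := (hUh w).1 hw
        rw [← map_mul, ← map_mul]
        refine QuotientGroup.eq.2 ((hXh _).2 ⟨(u * v)⁻¹ * (v * u), ?_, ?_⟩)
        · have h4 := H.der v⁻¹ (D.U.inv_mem hv) u⁻¹ (D.U.inv_mem hu)
          rw [inv_inv, inv_inv] at h4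
          have h5 : (u * v)⁻¹ * (v * u) = v⁻¹ * u⁻¹ * v * u := by group
          rw [h5]
          exact h4
        · rw [map_mul, map_inv, map_mul, map_mul, h1, h3]
          rfl)
      rw [Subgroup.index_map_eq _ hπ (by rw [QuotientGroup.ker_mk']; exact hle), hχ] at hA
      have hUN : Uh = N.subgroupOf P := by
        show (D.U.map i).subgroupOf P = _
        rw [hmapU]
        exact Subgroup.inf_subgroupOf_left _ _
      have h3 : Uh.index ∣ N.index := by
        rw [hUN]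
        exact Subgroup.relIndex_dvd_index_of_normal N P
      have hsN : IsSimpleGroup N := e.isSimpleGroup
      have hnaN : ¬ IsMulCommutative N := by
        intro h4
        apply hna
        refine ⟨⟨fun a b => e.symm.injective ?_⟩⟩
        rw [map_mul, map_mul]
        exact h4.is_comm.comm _ _
      have h4 := H390.Cyc.index_dvd_out N hsN hnaN hC
      rw [H934.OutB.card_out_congr e] at h4
      have h5 : ∃ k, Uh.index = p ^ k := by
        obtain ⟨n, hn⟩ := IsPGroup.iff_card.1 P.isPGroup'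
        have h6 : Uh.index ∣ p ^ n := by
          rw [← hn]
          exact Uh.index_dvd_card
        obtain ⟨k, -, hk⟩ := (Nat.dvd_prime_pow hp.out).1 h6
        exact ⟨k, hk⟩
      obtain ⟨k, hk⟩ := h5
      rw [hk] at h3 hA
      have h6 := hout h2 k (h3.trans h4)
      have h7 : p ^ f ≤ p ^ a := Nat.pow_le_pow_right hp.out.pos hfa
      have h8 : f < p ^ f := Nat.lt_pow_self hp.out.one_lt
      omega

end Cfsg.Agent.H408.HT
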