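import Cfsg.Agent.H664.R1.SplitSub

/-!
# Automorphisms of a rank one group acting trivially on `U / Z(U)` (helper408, S4933, box R1)

`Hs D X h m` : a split BN pair of rank one with radical `U` of Heisenberg type with centre `X`, and a torus element `h`
centralising `X` without fixed points on `U / X`.

* `inner_of_triv` : an automorphism of the simple group `G` which acts trivially on `U / X` is the conjugation by an element
  of `U`.
* `mem_of_triv` : the same inside an almost simple group.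
-/

set_option autoImplicit false

namespace Cfsg.Agent.H408.HT

open Cfsg Subgroup Cfsg.Agent.H664.R1

universe u v

/-- split BN pair with Heisenberg radical and a torus element `h` centralising the root group -/
structure Hs {G : Type u} [Group G] (D : Split G) (X : Subgroup G) (h : G) (m : ℕ) : Prop where
  XU : X ≤ D.U
  cen : ∀ x ∈ X, ∀ u ∈ D.U, u * x = x * u
  com : ∀ u ∈ D.U, u ∉ X → ∀ x ∈ X, ∃ v ∈ D.U, v * u * v⁻¹ = u * x
  ne : ∃ u ∈ D.U, u ∉ X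
  der : ∀ u ∈ D.U, ∀ v ∈ D.U, u * v * u⁻¹ * v⁻¹ ∈ X
  hT : h ∈ D.T
  hm : h ^ m = 1
  mX : (Nat.card X).Coprime m
  hX : ∀ x ∈ X, h * x = x * h
  hU : ∀ u ∈ D.U, h * u * h⁻¹ * u⁻¹ ∈ X → u ∈ X
  TU : ∀ t ∈ D.T, (∀ u ∈ D.U, t * u * t⁻¹ * u⁻¹ ∈ X) → t = 1

variable {G : Type u} [Group G] {D : Split G} {X : Subgroup G} {h : G} {m : ℕ}

theorem Hs.mem_B (H : Hs D X h m) {g : G} (hg : ∀ u ∈ D.U, g * u * g⁻¹ ∈ D.U) : g ∈ D.B := by
  by_contra hB
  obtain ⟨b, hb, c, hc, rfl⟩ := D.big g hB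
  obtain ⟨u, hu, huX⟩ := H.ne
  have h1 : c⁻¹ * u * c ∈ D.U := D.nU' hc hu
  have h2 := hg _ h1
  have h3 : b⁻¹ * (b * D.w * c * (c⁻¹ * u * c) * (b * D.w * c)⁻¹) * b ∈ D.U := D.nU' hb h2
  have h4 : b⁻¹ * (b * D.w * c * (c⁻¹ * u * c) * (b * D.w * c)⁻¹) * b = D.w * u * D.w⁻¹ := by group
  rw [h4] at h3
  have h5 : D.w⁻¹ * (D.w * u * D.w⁻¹) * D.w = u := by group
  have h6 := D.cap _ (D.UB h3) (by rw [h5]; exact D.UB hu)
  have h7 := D.wT _ h6
  rw [h5] at h7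
  rw [D.disj u hu h7] at huX
  exact huX (one_mem X)

theorem Hs.hUc (H : Hs D X h m) {u : G} (hu : u ∈ D.U) : h * u * h⁻¹ ∈ D.U := D.nU h (D.TB H.hT) u hu

theorem Hs.comm_mod (H : Hs D X h m) {a b : G} (ha : a ∈ D.U) (hb : b ∈ D.U) : ∃ z ∈ X, a * b = z * (b * a) :=
  ⟨a * b * a⁻¹ * b⁻¹, H.der a ha b hb, by group⟩

/-- the map `v ↦ [h, v]` is onto modulo `X` -/
theorem Hs.exists_lift [Finite G] (H : Hs D X h m) {u : G} (hu : u ∈ D.U) :
    ∃ v ∈ D.U, ∃ z ∈ X, h * v * h⁻¹ * v⁻¹ = u * z := by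
  classical
  have hXn : (X.subgroupOf D.U).Normal := ⟨fun x hx g => by
    have hx' : (x : G) ∈ X := hx
    show (g : G) * x * (g : G)⁻¹ ∈ X
    rw [H.cen x hx' g g.2, mul_inv_cancel_right]
    exact hx'⟩
  let Q := D.U ⧸ (X.subgroupOf D.U)
  have hc : ∀ a b : Q, a * b = b * a := by
    intro a b
    obtain ⟨a, rfl⟩ := QuotientGroup.mk_surjective a
    obtain ⟨b, rfl⟩ := QuotientGroup.mk_surjective b
    rw [← QuotientGroup.mk_mul, ← QuotientGroup.mk_mul, QuotientGroup.eq]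
    show ((a * b : D.U) : G)⁻¹ * ((b * a : D.U) : G) ∈ X
    have h1 := H.der (b : G)⁻¹ (D.U.inv_mem b.2) (a : G)⁻¹ (D.U.inv_mem a.2)
    rw [inv_inv, inv_inv] at h1
    have h2 : ((a * b : D.U) : G)⁻¹ * ((b * a : D.U) : G) = (b : G)⁻¹ * (a : G)⁻¹ * b * a := by
      push_cast
      group
    rw [h2]
    exact h1
  let al : D.U →* D.U :=
    { toFun := fun v => ⟨h * v * h⁻¹, H.hUc v.2⟩
      map_one' := Subtype.ext (by simp)
      map_mul' := fun a b => Subtype.ext (by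
        show h * ((a : G) * b) * h⁻¹ = h * a * h⁻¹ * (h * b * h⁻¹)
        group) }
  let π : D.U →* Q := QuotientGroup.mk' _
  let F : D.U →* Q :=
    { toFun := fun v => π (al v) * (π v)⁻¹
      map_one' := by simp
      map_mul' := fun a b => by
        rw [map_mul, map_mul, map_mul, mul_inv_rev]
        have h1 := hc (π (al b)) ((π b)⁻¹ * (π a)⁻¹)
        have h2 := hc (π b)⁻¹ (π a)⁻¹
        calc π (al a) * π (al b) * ((π b)⁻¹ * (π a)⁻¹) = π (al a) * (π (al b) * ((π b)⁻¹ * (π a)⁻¹)) := by group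
          _ = π (al a) * ((π b)⁻¹ * (π a)⁻¹ * π (al b)) := by rw [h1]
          _ = π (al a) * ((π a)⁻¹ * (π b)⁻¹ * π (al b)) := by rw [h2]
          _ = π (al a) * (π a)⁻¹ * ((π b)⁻¹ * π (al b)) := by group
          _ = π (al a) * (π a)⁻¹ * (π (al b) * (π b)⁻¹) := by rw [hc (π b)⁻¹ (π (al b))] }
  have hF : ∀ v : D.U, F v = π (al v * v⁻¹) := fun v => by
    rw [map_mul, map_inv]
    rfl
  have hker : F.ker = X.subgroupOf D.U := by
    ext v
    rw [MonoidHom.mem_ker, hF, ← MonoidHom.mem_ker, QuotientGroup.ker_mk']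
    constructor
    · intro h1
      exact H.hU v v.2 h1
    · intro h1
      have h2 : (v : G) ∈ X := h1
      show h * (v : G) * h⁻¹ * (v : G)⁻¹ ∈ X
      rw [H.hX v h2, mul_inv_cancel_right, mul_inv_cancel]
      exact one_mem X
  have hsurj : F.range = ⊤ := by
    apply Subgroup.eq_top_of_card_eq
    rw [← Subgroup.index_ker, hker]
    rfl
  have h1 : π ⟨u, hu⟩ ∈ F.range := by rw [hsurj]; exact mem_top _
  obtain ⟨v, hv⟩ := h1
  rw [hF] at hv
  have h3 := QuotientGroup.eq.1 hv.symm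
  have h4 : u⁻¹ * (h * v * h⁻¹ * (v : G)⁻¹) ∈ X := h3
  refine ⟨v, v.2, _, h4, by group⟩

theorem Hs.one_of_pow [Finite G] (H : Hs D X h m) {z : G} (hz : z ∈ X) (h1 : z ^ m = 1) : z = 1 := by
  have h2 : z ^ Nat.card X = 1 := by
    have := pow_card_eq_one' (x := (⟨z, hz⟩ : X))
    have h3 := congrArg Subtype.val this
    exact h3
  have h3 : orderOf z ∣ 1 := by
    rw [← Nat.coprime_iff_gcd_eq_one.1 H.mX]
    exact Nat.dvd_gcd (orderOf_dvd_of_pow_eq_one h2) (orderOf_dvd_of_pow_eq_one h1)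
  exact orderOf_eq_one_iff.1 (Nat.dvd_one.1 h3)

/-- step 3: `α` centralises `h` and `U / X`, hence `U` -/
theorem Hs.fix_U [Finite G] (H : Hs D X h m) (α : G →* G) (hα : ∀ u ∈ D.U, u⁻¹ * α u ∈ X) (hh : α h = h) :
    ∀ u ∈ D.U, α u = u := by
  let f : D.U →* G :=
    { toFun := fun u => (u : G)⁻¹ * α u
      map_one' := by simp
      map_mul' := fun a b => by
        show ((a : G) * b)⁻¹ * α (a * b) = (a : G)⁻¹ * α a * ((b : G)⁻¹ * α b)
        have h1 := H.cen _ (hα a a.2) (b : G)⁻¹ (D.U.inv_mem b.2)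
        rw [map_mul]
        calc ((a : G) * b)⁻¹ * (α a * α b) = (b : G)⁻¹ * ((a : G)⁻¹ * α a) * α b := by group
          _ = (a : G)⁻¹ * α a * (b : G)⁻¹ * α b := by rw [h1]
          _ = _ := by group }
  have hfX : ∀ u : D.U, f u ∈ X := fun u => hα u u.2
  have hfc : ∀ a b : D.U, f (a * b * a⁻¹ * b⁻¹) = 1 := by
    intro a b
    rw [map_mul, map_mul, map_mul, map_inv, map_inv]
    have h1 := H.cen _ (hfX a) _ (H.XU (hfX b))
    calc f a * f b * (f a)⁻¹ * (f b)⁻¹ = f a * f b * (f b * f a)⁻¹ := by group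
      _ = 1 := by rw [h1, mul_inv_cancel]
  have hf0 : ∀ z (hz : z ∈ X), f ⟨z, H.XU hz⟩ = 1 := by
    intro z hz
    obtain ⟨u, hu, huX⟩ := H.ne
    obtain ⟨v, hv, h1⟩ := H.com u hu huX z hz
    have h2 := hfc ⟨u⁻¹, D.U.inv_mem hu⟩ ⟨v, hv⟩
    rw [← h2]
    congr 1
    apply Subtype.ext
    show z = u⁻¹ * v * u⁻¹⁻¹ * v⁻¹
    have h3 : u⁻¹ * (v * u * v⁻¹) = z := by rw [h1, inv_mul_cancel_left]
    rw [← h3]
    group
  have hfh : ∀ u : D.U, f ⟨h * u * h⁻¹, H.hUc u.2⟩ = f u := by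
    intro u
    show (h * (u : G) * h⁻¹)⁻¹ * α (h * u * h⁻¹) = (u : G)⁻¹ * α u
    rw [map_mul, map_mul, map_inv, hh]
    have h1 := H.hX _ (hα u u.2)
    calc (h * (u : G) * h⁻¹)⁻¹ * (h * α u * h⁻¹) = h * ((u : G)⁻¹ * α u) * h⁻¹ := by group
      _ = _ := by rw [h1, mul_inv_cancel_right]
  intro u hu
  obtain ⟨v, hv, z, hz, h1⟩ := H.exists_lift hu
  have h2 : f (⟨h * v * h⁻¹, H.hUc hv⟩ * ⟨v, hv⟩⁻¹) = 1 := by
    rw [map_mul, map_inv, hfh ⟨v, hv⟩, mul_inv_cancel]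
  have h3 : (⟨h * v * h⁻¹, H.hUc hv⟩ * ⟨v, hv⟩⁻¹ : D.U) = ⟨u, hu⟩ * ⟨z, H.XU hz⟩ := Subtype.ext h1
  rw [h3, map_mul, hf0 z hz, mul_one] at h2
  exact (inv_mul_eq_one.1 h2).symm

/-- **An automorphism acting trivially on `U / X` is the conjugation by an element of `U`.** -/
theorem Hs.inner_of_triv [Finite G] [IsSimpleGroup G] (H : Hs D X h m) (α : G →* G) (hinj : Function.Injective α)
    (hα : ∀ u ∈ D.U, u⁻¹ * α u ∈ X) : ∃ u0 ∈ D.U, ∀ g, α g = u0 * g * u0⁻¹ := by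
  classical
  -- `X` is `α`-invariant
  have hαX : ∀ z ∈ X, α z ∈ X := fun z hz => by
    have := X.mul_mem hz (hα z (H.XU hz))
    rwa [mul_inv_cancel_left] at this
  have hXs : ∀ z ∈ X, ∃ z' ∈ X, α z' = z := by
    intro z hz
    let f : X → X := fun z => ⟨α z, hαX z z.2⟩
    have hf : Function.Injective f := fun a b hab => Subtype.ext (hinj (congrArg Subtype.val hab))
    obtain ⟨z', hz'⟩ := (Finite.injective_iff_surjective.1 hf) ⟨z, hz⟩
    exact ⟨z', z'.2, congrArg Subtype.val hz'⟩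
  -- step 1
  have hg0 : ∀ u ∈ D.U, ∃ z ∈ X, (α h * h⁻¹) * u * (α h * h⁻¹)⁻¹ = u * z := by
    intro u hu
    have hu' : h⁻¹ * u * h ∈ D.U := D.nU' (D.TB H.hT) hu
    obtain ⟨z2, hz2, h2⟩ := hXs _ (X.inv_mem (hα _ hu'))
    refine ⟨(u⁻¹ * α u) * α z2, X.mul_mem (hα u hu) (hαX _ hz2), ?_⟩
    have e1 : h⁻¹ * u * h = α (h⁻¹ * u * h) * α z2 := by
      rw [h2]
      group
    calc (α h * h⁻¹) * u * (α h * h⁻¹)⁻¹ = α h * (h⁻¹ * u * h) * (α h)⁻¹ := by group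
      _ = α h * (α (h⁻¹ * u * h) * α z2) * (α h)⁻¹ := by rw [← e1]
      _ = α (h * (h⁻¹ * u * h * z2) * h⁻¹) := by
        rw [map_mul α (h * (h⁻¹ * u * h * z2)), map_mul α h, map_mul α (h⁻¹ * u * h), map_inv]
      _ = α (u * (h * z2 * h⁻¹)) := by
        congr 1
        group
      _ = α u * α z2 := by rw [H.hX z2 hz2, mul_inv_cancel_right, map_mul]
      _ = u * (u⁻¹ * α u * α z2) := by group
  have hg1 : α h * h⁻¹ ∈ D.B := H.mem_B fun u hu => by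
    obtain ⟨z, hz, h1⟩ := hg0 u hu
    rw [h1]
    exact D.U.mul_mem hu (H.XU hz)
  have hg2 : α h * h⁻¹ ∈ D.U := by
    obtain ⟨u1, hu1, t1, ht1, h1⟩ := D.dec _ hg1
    have h2 : t1 = 1 := by
      refine H.TU t1 ht1 fun u hu => ?_
      obtain ⟨z, hz, h3⟩ := hg0 u hu
      have h4 := H.der u1⁻¹ (D.U.inv_mem hu1) u hu
      rw [inv_inv] at h4
      have h5 : t1 * u * t1⁻¹ * u⁻¹ = (u1⁻¹ * u * u1 * u⁻¹) * z := by
        have e1 : t1 = u1⁻¹ * (α h * h⁻¹) := by rw [h1, inv_mul_cancel_left]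
        have e2 : t1 * u * t1⁻¹ = u1⁻¹ * ((α h * h⁻¹) * u * (α h * h⁻¹)⁻¹) * u1 := by
          rw [e1]
          group
        rw [e2, h3]
        have e3 := H.cen z hz (u1 * u⁻¹) (D.U.mul_mem hu1 (D.U.inv_mem hu))
        calc u1⁻¹ * (u * z) * u1 * u⁻¹ = u1⁻¹ * u * (z * (u1 * u⁻¹)) := by group
          _ = u1⁻¹ * u * (u1 * u⁻¹ * z) := by rw [e3]
          _ = _ := by group
      rw [h5]
      exact X.mul_mem h4 hz
    rw [h1, h2, mul_one]
    exact hu1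
  -- step 2
  obtain ⟨v, hv, z, hz, hvz⟩ := H.exists_lift (D.U.inv_mem hg2)
  let α' : G →* G := ((MulAut.conj v⁻¹ : MulAut G) : G →* G).comp α
  have hα'd : ∀ g, α' g = v⁻¹ * α g * v := fun g => by
    show v⁻¹ * α g * v⁻¹⁻¹ = _
    rw [inv_inv]
  have hinj' : Function.Injective α' := fun a b hab => by
    rw [hα'd, hα'd] at hab
    exact hinj (mul_left_cancel (mul_right_cancel hab))
  have hα' : ∀ u ∈ D.U, u⁻¹ * α' u ∈ X := by
    intro u hu
    have h1 := H.der u⁻¹ (D.U.inv_mem hu) v⁻¹ (D.U.inv_mem hv)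
    rw [inv_inv, inv_inv] at h1
    have h2 : u⁻¹ * α' u = (u⁻¹ * v⁻¹ * u * v) * (u⁻¹ * α u) := by
      rw [hα'd]
      have e1 := H.cen _ (hα u hu) v hv
      calc u⁻¹ * (v⁻¹ * α u * v) = u⁻¹ * v⁻¹ * u * ((u⁻¹ * α u) * v) := by group
        _ = u⁻¹ * v⁻¹ * u * (v * (u⁻¹ * α u)) := by rw [e1]
        _ = _ := by group
    rw [h2]
    exact X.mul_mem h1 (hα u hu)
  have hh' : α' h = h := by
    have e1 : α' h = z * h := by
      rw [hα'd]
      have e2 : h * v = (α h * h⁻¹)⁻¹ * z * v * h := by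
        rw [← hvz]
        group
      calc v⁻¹ * α h * v = v⁻¹ * (α h * h⁻¹) * (h * v) := by group
        _ = v⁻¹ * (α h * h⁻¹) * ((α h * h⁻¹)⁻¹ * z * v * h) := by rw [e2]
        _ = v⁻¹ * (z * v) * h := by group
        _ = v⁻¹ * (v * z) * h := by rw [H.cen z hz v hv]
        _ = z * h := by group
    have e3 : (α' h) ^ m = 1 := by rw [← map_pow, H.hm, map_one]
    rw [e1, (show Commute z h from (H.hX z hz).symm).mul_pow, H.hm, mul_one] at e3
    rw [e1, H.one_of_pow hz e3, one_mul]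
  -- step 3
  have hfix := H.fix_U α' hα' hh'
  -- step 4
  have hB' : ∀ b ∈ D.B, α' b ∈ D.B := fun b hb => H.mem_B fun u hu => by
    have h1 : α' b * u * (α' b)⁻¹ = α' (b * u * b⁻¹) := by rw [map_mul, map_mul, map_inv, hfix u hu]
    rw [h1, hfix _ (D.nU b hb u hu)]
    exact D.nU b hb u hu
  have hw' : α' D.w ∉ D.B := by
    intro h1
    refine D.wB (H.mem_B fun u hu => ?_)
    have h2 : α' (D.w * u * D.w⁻¹) = α' D.w * u * (α' D.w)⁻¹ := by rw [map_mul, map_mul, map_inv, hfix u hu]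
    have h3 := D.nU _ h1 u hu
    rw [← h2] at h3
    have h4 := hfix _ h3
    rw [← hinj' h4]
    exact h3
  obtain ⟨b, hb, c, hc, h1⟩ := D.big _ hw'
  obtain ⟨u1, hu1, t, ht, rfl⟩ := D.dec b hb
  obtain ⟨b1, hb1, h2⟩ : ∃ b1 ∈ D.B, α' D.w = u1 * D.w * b1 :=
    ⟨D.w⁻¹ * t * D.w * c, D.B.mul_mem (D.TB (D.wT t ht)) hc, by rw [h1]; group⟩
  have hwh : D.w⁻¹ * h * D.w ∈ D.B := D.TB (D.wT h H.hT)
  have hu1X : u1 ∈ X := by
    have e1 : h * α' D.w = α' D.w * α' (D.w⁻¹ * h * D.w) := by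
      rw [← map_mul, show D.w * (D.w⁻¹ * h * D.w) = h * D.w by group, map_mul, hh']
    rw [h2] at e1
    have e2 : D.w⁻¹ * (u1⁻¹ * h * u1 * h⁻¹) * D.w =
        b1 * α' (D.w⁻¹ * h * D.w) * b1⁻¹ * (D.w⁻¹ * h * D.w)⁻¹ := by
      have e3 : α' (D.w⁻¹ * h * D.w) = (u1 * D.w * b1)⁻¹ * (h * (u1 * D.w * b1)) := by
        rw [e1, inv_mul_cancel_left]
      rw [e3]
      group
    have e4 : D.w⁻¹ * (u1⁻¹ * h * u1 * h⁻¹) * D.w ∈ D.B := by
      rw [e2]
      exact D.B.mul_mem (D.B.mul_mem (D.B.mul_mem hb1 (hB' _ hwh)) (D.B.inv_mem hb1)) (D.B.inv_mem hwh)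
    have e5 : u1⁻¹ * h * u1 * h⁻¹ ∈ D.U := by
      have := D.U.mul_mem (D.U.inv_mem hu1) (H.hUc hu1)
      rwa [show u1⁻¹ * (h * u1 * h⁻¹) = u1⁻¹ * h * u1 * h⁻¹ by group] at this
    have e6 := D.disj _ e5 (D.cap _ (D.UB e5) e4)
    refine H.hU u1 hu1 ?_
    have e7 : h * u1 * h⁻¹ * u1⁻¹ = u1 * (u1⁻¹ * h * u1 * h⁻¹) * u1⁻¹ := by group
    rw [e7, e6, mul_one, mul_inv_cancel]
    exact one_mem X
  let β : G →* G := ((MulAut.conj u1⁻¹ : MulAut G) : G →* G).comp α'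
  have hβd : ∀ g, β g = u1⁻¹ * α' g * u1 := fun g => by
    show u1⁻¹ * α' g * u1⁻¹⁻¹ = _
    rw [inv_inv]
  have hβU : ∀ u ∈ D.U, β u = u := fun u hu => by
    rw [hβd, hfix u hu, mul_assoc, H.cen u1 hu1X u hu, inv_mul_cancel_left]
  have hβB : ∀ b ∈ D.B, β b ∈ D.B := fun b hb => by
    rw [hβd]
    exact D.B.mul_mem (D.B.mul_mem (D.B.inv_mem (D.UB hu1)) (hB' b hb)) (D.UB hu1)
  have hβw : β D.w = D.w * (b1 * u1) := by
    rw [hβd, h2]
    group
  -- step 5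
  have hall : ∀ g, g⁻¹ * β g ∈ D.B := by
    intro g
    by_cases hg : g ∈ D.B
    · exact D.B.mul_mem (D.B.inv_mem hg) (hβB g hg)
    · obtain ⟨b, hb, c, hc, rfl⟩ := D.big g hg
      obtain ⟨u, hu, t, ht, rfl⟩ := D.dec b hb
      have h3 : D.w⁻¹ * t * D.w * c ∈ D.B := D.B.mul_mem (D.TB (D.wT t ht)) hc
      have e1 : u * t * D.w * c = u * D.w * (D.w⁻¹ * t * D.w * c) := by group
      rw [e1, map_mul β (u * D.w), map_mul β u, hβU u hu, hβw]
      have e2 : (u * D.w * (D.w⁻¹ * t * D.w * c))⁻¹ * (u * (D.w * (b1 * u1)) * β (D.w⁻¹ * t * D.w * c)) =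
          (D.w⁻¹ * t * D.w * c)⁻¹ * (b1 * u1) * β (D.w⁻¹ * t * D.w * c) := by group
      rw [e2]
      exact D.B.mul_mem (D.B.mul_mem (D.B.inv_mem h3) (D.B.mul_mem hb1 (D.UB hu1))) (hβB _ h3)
  have hcore : D.B.normalCore = ⊥ := by
    rcases IsSimpleGroup.eq_bot_or_eq_top_of_normal D.B.normalCore inferInstance with h3 | h3
    · exact h3
    · exfalso
      apply D.wB
      exact D.B.normalCore_le (by rw [h3]; exact mem_top _)
  have hβ1 : ∀ g, β g = g := by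
    intro g
    have h3 : g⁻¹ * β g ∈ D.B.normalCore := by
      intro k
      have e1 := hall (g * k⁻¹)
      have e2 := D.B.inv_mem (hall k⁻¹)
      have e3 : k * (g⁻¹ * β g) * k⁻¹ = ((g * k⁻¹)⁻¹ * β (g * k⁻¹)) * (k⁻¹⁻¹ * β k⁻¹)⁻¹ := by
        rw [map_mul, map_inv]
        group
      rw [e3]
      exact D.B.mul_mem e1 e2
    rw [hcore, mem_bot] at h3
    exact (inv_mul_eq_one.1 h3).symm
  refine ⟨v * u1, D.U.mul_mem hv hu1, fun g => ?_⟩
  have h3 := hβ1 g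
  rw [hβd, hα'd] at h3
  have h4 : u1⁻¹ * (v⁻¹ * α g * v) * u1 = (v * u1)⁻¹ * α g * (v * u1) := by group
  rw [h4] at h3
  conv_rhs => rw [← h3]
  group

/-- **The same inside an almost simple group.** -/
theorem Hs.mem_of_triv [Finite G] [IsSimpleGroup G] (H : Hs D X h m) {A : Type v} [Group A] (i : G →* A)
    (hi : Function.Injective i) (hn : i.range.Normal) (hC : centralizer (i.range : Set A) = ⊥) {x : A}
    (hx : ∀ u ∈ D.U, ∃ z ∈ X, x * i u * x⁻¹ = i (u * z)) : x ∈ i.range := by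
  have hex : ∀ g : G, ∃ g' : G, i g' = x * i g * x⁻¹ := fun g => hn.conj_mem (i g) ⟨g, rfl⟩ x
  choose α hα using hex
  let α' : G →* G :=
    { toFun := α
      map_one' := hi (by rw [hα, map_one, mul_one, mul_inv_cancel])
      map_mul' := fun a b => hi (by rw [hα, map_mul, map_mul, hα, hα]; group) }
  have hinj : Function.Injective α' := fun a b hab => by
    have h1 : i (α a) = i (α b) := congrArg i hab
    rw [hα, hα] at h1
    exact hi (mul_left_cancel (mul_right_cancel h1))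
  obtain ⟨u0, -, h0⟩ := H.inner_of_triv α' hinj fun u hu => by
    obtain ⟨z, hz, h1⟩ := hx u hu
    rw [← hα] at h1
    have h2 : α u = u * z := hi h1
    show u⁻¹ * α u ∈ X
    rw [h2, inv_mul_cancel_left]
    exact hz
  have h1 : (i u0)⁻¹ * x ∈ centralizer (i.range : Set A) := by
    rw [mem_centralizer_iff]
    rintro _ ⟨g, rfl⟩
    have h2 : x * i g * x⁻¹ = i u0 * i g * (i u0)⁻¹ := by
      rw [← hα, ← map_inv, ← map_mul, ← map_mul]
      exact congrArg i (h0 g)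
    have h3 : x * i g = i u0 * i g * (i u0)⁻¹ * x := by rw [← h2]; group
    rw [mul_assoc, h3]
    group
  rw [hC, mem_bot, inv_mul_eq_one] at h1
  exact ⟨u0, h1⟩

/-- restriction to a subgroup containing `U`, `w` and `h` -/
theorem Hs.res (H : Hs D X h m) (S : Subgroup G) (hU : D.U ≤ S) (hw : D.w ∈ S) (hh : h ∈ S) :
    Hs (D.res S hU hw) (X.subgroupOf S) ⟨h, hh⟩ m where
  XU := fun _ hx => H.XU hx
  cen := fun x hx u hu => Subtype.ext (H.cen x hx u hu)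
  com := fun u hu hux x hx => by
    obtain ⟨v, hv, h1⟩ := H.com u hu hux x hx
    exact ⟨⟨v, hU hv⟩, hv, Subtype.ext h1⟩
  ne := by
    obtain ⟨u, hu, hux⟩ := H.ne
    exact ⟨⟨u, hU hu⟩, hu, hux⟩
  der := fun u hu v hv => H.der u hu v hv
  hT := H.hT
  hm := Subtype.ext H.hm
  mX := by
    rw [Nat.card_congr (Subgroup.subgroupOfEquivOfLe (H.XU.trans hU)).toEquiv]
    exact H.mX
  hX := fun x hx => Subtype.ext (H.hX x hx)
  hU := fun u hu hux => H.hU u hu hux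
  TU := fun t ht htu => Subtype.ext (H.TU t ht fun u hu => htu ⟨u, hU hu⟩ hu)

end Cfsg.Agent.H408.HT
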