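import Cfsg.Agent.H408.HT.U3Inst
import Cfsg.Agent.H112.HT.Ind

/-!
# The character of `PSU(3,q)`, `9 ∣ q + 1`, for `p = 3` (helper408, S4933, box o.diag)

* `exists_psi` : a member of the principal `3`-block whose degree has `3`-part `3`, invariant under all automorphisms of
  odd order.
-/

set_option autoImplicit false
set_option linter.unusedSectionVars false

namespace Cfsg.Agent.H408.HT

open Cfsg Subgroup Cfsg.Agent.H664.R1 Cfsg.Agent.H664.R1.U3 Cfsg.Agent.LieClassical.HermBasic Matrix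
open Cfsg.Agent.H681.DegBasic Cfsg.Agent.LieRecognition.PSUThreeSylow
open scoped Pointwise

section chr

variable {F : Type} [Field F] [Fintype F] {q : ℕ} {σ : F →+* F} [hσ : Fact (∀ x, σ (σ x) = x)]

/-- a linear character of `Fˣ` of order `9` -/
theorem exists_lam9 (hF : Fintype.card F = q ^ 2) (h9 : 9 ∣ q + 1) :
    ∃ (γ : Fˣ) (lam : Fˣ →* ℂˣ), (∀ x, x ∈ Subgroup.zpowers γ) ∧ (∀ x, lam x ^ 9 = 1) ∧ lam γ ^ 3 ≠ 1 := by
  obtain ⟨γ, hγ⟩ := IsCyclic.exists_generator (α := Fˣ)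
  have hprim := Complex.isPrimitiveRoot_exp 9 (by norm_num)
  obtain ⟨ζ, hζ⟩ : ∃ ζ : ℂˣ, (ζ : ℂ) = Complex.exp (2 * Real.pi * Complex.I / (9 : ℕ)) :=
    ⟨Units.mk0 _ (hprim.ne_zero (by norm_num)), rfl⟩
  have hord : orderOf ζ = 9 := by
    rw [← orderOf_units, hζ]
    exact hprim.eq_orderOf.symm
  have hgo : orderOf γ = Nat.card Fˣ := orderOf_eq_card_of_forall_mem_zpowers hγ
  have hd : 9 ∣ Nat.card Fˣ := by
    rw [card_units_eq hF]
    exact Dvd.dvd.mul_right h9 _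
  let lam : Fˣ →* ℂˣ := monoidHomOfForallMemZpowers hγ (by rw [hord, hgo]; exact hd : orderOf ζ ∣ orderOf γ)
  have hl : lam γ = ζ := monoidHomOfForallMemZpowers_apply_gen hγ _
  refine ⟨γ, lam, hγ, fun a => ?_, ?_⟩
  · obtain ⟨i, rfl⟩ := Subgroup.mem_zpowers_iff.1 (hγ a)
    rw [map_zpow, hl, ← zpow_natCast, ← _root_.zpow_mul, mul_comm, _root_.zpow_mul, zpow_natCast]
    have h1 : ζ ^ 9 = 1 := by rw [← hord, pow_orderOf_eq_one]
    rw [h1, _root_.one_zpow]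
  · rw [hl]
    intro h
    have h1 := orderOf_dvd_of_pow_eq_one h
    rw [hord] at h1
    exact absurd (Nat.le_of_dvd (by norm_num) h1) (by norm_num)

theorem dg_pow {t : F} (ht : t ≠ 0) (k : ℕ) : mat σ (dg t (σ t / t) ht (dgS_rel ht) ^ k) =
    Matrix.diagonal ![t ^ k, (σ t / t) ^ k, ((σ t)⁻¹) ^ k] := by
  induction k with
  | zero =>
    rw [pow_zero, mat_one]
    ext i j
    fin_cases i <;> fin_cases j <;> simp
  | succ k ih =>
    rw [pow_succ, mat_mul, ih, mat_dg]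
    ext i j
    fin_cases i <;> fin_cases j <;> simp [Matrix.mul_apply, Matrix.diagonal, pow_succ]

/-- the generator of the torus -/
def g0 (σ : F →+* F) [hσ : Fact (∀ x, σ (σ x) = x)] (γ : Fˣ) : S σ :=
  ⟨pr σ (dg (γ : F) (σ γ / γ) γ.ne_zero (dgS_rel γ.ne_zero)), _, dgS_mem _ γ.ne_zero (dgS_rel γ.ne_zero), rfl⟩

theorem g0_mem (γ : Fˣ) : g0 σ γ ∈ (spS σ).T := ⟨_, dg_mem _ _ _ _, rfl⟩

theorem T_gen {γ : Fˣ} (hγ : ∀ x, x ∈ Subgroup.zpowers γ) {t : S σ} (ht : t ∈ (spS σ).T) : ∃ j : ℕ, t = g0 σ γ ^ j := by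
  obtain ⟨x, hxS⟩ := t
  obtain ⟨d, hd, hdx⟩ : x ∈ (To σ).map (pr σ) := ht
  have hxS' : x ∈ (SUs σ).map (pr σ) := hxS
  obtain ⟨v, hv, hvx⟩ := hxS'
  have h1 : d⁻¹ * v ∈ Sc σ := by
    rw [← QuotientGroup.ker_mk' (Sc σ), MonoidHom.mem_ker, map_mul, map_inv]
    exact inv_mul_eq_one.2 (hdx.trans hvx.symm)
  have h2 : v ∈ To σ := by
    have := (To σ).mul_mem hd (Sc_le h1)
    rwa [mul_inv_cancel_left] at this
  obtain ⟨a, s, ha, hs, rfl⟩ := exists_dg h2
  have h3 : a * s * (σ a)⁻¹ = 1 := by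
    have h4 : (mat σ (dg a s ha hs)).det = 1 := hv
    rw [mat_dg, Matrix.det_fin_three] at h4
    simpa using h4
  have h0 : σ a ≠ 0 := (map_ne_zero σ).2 ha
  have h5 : s = σ a / a := by
    rw [eq_div_iff ha]
    have h6 : a * s = σ a := by
      rw [mul_inv_eq_one₀ h0] at h3
      exact h3
    rw [mul_comm]
    exact h6
  obtain ⟨j, hj⟩ := (mem_powers_iff_mem_zpowers (x := γ)).2 (hγ (Units.mk0 a ha))
  refine ⟨j, ?_⟩
  apply Subtype.ext
  show x = ((g0 σ γ ^ j : S σ) : PG σ)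
  rw [SubmonoidClass.coe_pow, ← hvx]
  show pr σ _ = (pr σ (dg (γ : F) (σ γ / γ) γ.ne_zero (dgS_rel γ.ne_zero))) ^ j
  rw [← map_pow]
  congr 1
  apply mat_inj
  have hj' : (γ : F) ^ j = a := by
    have := congrArg Units.val hj
    simpa using this
  rw [dg_pow, mat_dg, h5, ← hj', map_pow, div_pow]
  ext i j
  fin_cases i <;> fin_cases j <;> simp

/-- the character of order three of the Borel subgroup, and the decomposition of the induced character -/
theorem exists_dec (hF : Fintype.card F = q ^ 2) (h9 : 9 ∣ q + 1) (hs : ∀ x, σ x = x ^ q) [Fintype (S σ)] :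
    ∃ (γ : Fˣ) (f : (spS σ).B →* ℂˣ), (∀ x, x ∈ Subgroup.zpowers γ) ∧
      (∀ b : (spS σ).B, (b : S σ) ∈ (spS σ).U → f b = 1) ∧ (∀ b, f b ^ 3 = 1) ∧
      f ⟨g0 σ γ, (spS σ).TB (g0_mem γ)⟩ ≠ 1 ∧
      ∃ α β : IrrCharacter (S σ), (spS σ).ps f = (α : S σ → ℂ) + (β : S σ → ℂ) ∧
        charDegree (α : S σ → ℂ) = q ^ 2 - q + 1 ∧ charDegree (β : S σ → ℂ) = q * (q ^ 2 - q + 1) := by
  classical
  have hq : 3 ≤ q := by
    have := Nat.le_of_dvd (by omega) h9
    omega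
  have : Finite (PG σ) := inferInstance
  have := Fintype.ofFinite (PG σ)
  obtain ⟨γ, lam, hγ, hlam9, hlam3⟩ := exists_lam9 hF h9
  have hlam : ∀ x, lam (x ^ (q + 1)) = 1 := by
    intro x
    obtain ⟨k, hk⟩ := h9
    rw [map_pow, hk, pow_mul, hlam9, one_pow]
  obtain ⟨f, hfU, hf⟩ := exists_linP (σ := σ) lam
  have hinv := inv_of_lam hs hlam hfU hf
  -- the restriction to `S`
  set f' : (spS σ).B →* ℂˣ := f.comp (incl σ) with hf'
  have hinvU' : ∀ b : (spS σ).B, (b : S σ) ∈ (spS σ).U → f' b = 1 := fun b hb => hfU _ hb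
  have hinv' : ∀ t, ∀ ht : t ∈ (spS σ).T, f' ⟨t, (spS σ).TB ht⟩ =
      f' ⟨(spS σ).w⁻¹ * t * (spS σ).w, (spS σ).TB ((spS σ).wT t ht)⟩ :=
    fun t ht => hinv.2 t ht
  have hres : ∀ g : S σ, (spS σ).ps f' g = (spP σ).ps f g := fun g =>
    (spP σ).ps_res (S σ) U_le_S w_mem_S f f' (fun b hb => rfl) g
  -- the value at the generator
  have hg0 : f' ⟨g0 σ γ, (spS σ).TB (g0_mem γ)⟩ = lam γ ^ 3 := by
    have h2 : f' ⟨g0 σ γ, (spS σ).TB (g0_mem γ)⟩ = lam _ := hf (γ : F) (σ γ / γ) γ.ne_zero (dgS_rel γ.ne_zero) _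
    have h0 : σ (γ : F) ≠ 0 := (map_ne_zero σ).2 γ.ne_zero
    have h3 : γ ^ 3 = Units.mk0 ((γ : F) * σ (σ γ / γ)) (mul_ne_zero γ.ne_zero ((map_ne_zero σ).2
        (left_ne_zero_of_mul_eq_one (dgS_rel γ.ne_zero)))) * γ ^ (q + 1) := by
      apply Units.ext
      rw [Units.val_mul, Units.val_pow_eq_pow_val, Units.val_pow_eq_pow_val, Units.val_mk0,
        pow_succ (γ : F) q, ← hs, map_div₀, hσ.out]
      field_simp
    rw [h2, ← map_pow, h3, map_mul, hlam, mul_one]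
  have hf3 : ∀ b, f' b ^ 3 = 1 := by
    rintro ⟨b, hb⟩
    obtain ⟨u, hu, t, ht, rfl⟩ := (spS σ).dec b hb
    obtain ⟨j, rfl⟩ := T_gen hγ ht
    have h1 : (⟨u * g0 σ γ ^ j, hb⟩ : (spS σ).B) = ⟨u, (spS σ).UB hu⟩ * ⟨g0 σ γ, (spS σ).TB (g0_mem γ)⟩ ^ j :=
      Subtype.ext (by push_cast; rfl)
    rw [h1, map_mul, hinvU' _ hu, one_mul, map_pow, hg0, ← pow_mul, ← pow_mul]
    have h2 : 3 * (j * 3) = 9 * j := by ring
    rw [h2, pow_mul, hlam9, one_pow]
  have hne1 : f' ≠ 1 := by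
    intro h
    apply hlam3
    rw [← hg0, h, MonoidHom.one_apply]
  obtain ⟨χ, χ', hne, h, h3⟩ := (fus hF hq hs).exact_degrees f hinv
  have hsum : (spS σ).ps f' = (fun g : S σ => (χ : PG σ → ℂ) g) + fun g : S σ => (χ' : PG σ → ℂ) g := by
    funext g
    rw [hres, h]
    rfl
  have hc : IsCharacter (S σ) (fun g : S σ => (χ : PG σ → ℂ) g) :=
    Characters.Core.isCharacter_comp (S σ).subtype (Characters.Core.isIrr_isCharacter χ.2)
  have hc' : IsCharacter (S σ) (fun g : S σ => (χ' : PG σ → ℂ) g) :=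
    Characters.Core.isCharacter_comp (S σ).subtype (Characters.Core.isIrr_isCharacter χ'.2)
  have hz : (χ : PG σ → ℂ) 1 ≠ 0 := Characters.Core.isIrr_apply_one_ne_zero χ.2
  have hz' : (χ' : PG σ → ℂ) 1 ≠ 0 := Characters.Core.isIrr_apply_one_ne_zero χ'.2
  obtain ⟨i1, i2⟩ := irr_of_sum_two hc hc' hz hz'
    (by rw [← hsum]; exact (spS σ).norm_ps f' hinv')
  -- no constituent is trivial
  have hno : ∀ α β : S σ → ℂ, IsIrrCharacter (S σ) α → IsIrrCharacter (S σ) β →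
      (spS σ).ps f' = α + β → α 1 ≠ 1 := by
    intro α β hα hβ hs' h1
    obtain ⟨η, hη⟩ := Cfsg.Agent.Characters.Linear.exists_hom_of_isIrrCharacter hα h1
    rw [perfect hF hq hs η] at hη
    have hα1 : α = 1 := by
      rw [hη]
      rfl
    have h4 := (spS σ).inner_ps_one_eq_zero f' hne1
    rw [hs', Characters.Core.classInner_add_left, hα1,
      Characters.Core.classInner_irr_self Characters.Core.isIrr_one] at h4
    obtain ⟨c, hc⟩ := Characters.Core.classInner_isNat (Characters.Core.isIrr_isCharacter hβ)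
      (Characters.Core.isCharacter_one (G := S σ))
    rw [hc] at h4
    have : 1 + c = 0 := by exact_mod_cast h4
    omega
  refine ⟨γ, f', hγ, hinvU', hf3, by rw [hg0]; exact hlam3, ?_⟩
  rcases h3 with h3 | h3 | ⟨h3, h4⟩
  · exact absurd h3 (hno _ _ i1 i2 hsum)
  · exact absurd h3 (hno _ _ i2 i1 (by rw [hsum, add_comm]))
  · exact ⟨⟨_, i1⟩, ⟨_, i2⟩, hsum, Blocks.Basic.charDegree_of_eq h3, Blocks.Basic.charDegree_of_eq h4⟩

/-- `P` over an automorphism: the square of an automorphism fixes the induced character -/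
theorem ps_sq {r : ℕ} [hr : Fact r.Prime] (hF : Fintype.card F = q ^ 2) (hq : 3 ≤ q) (hs : ∀ x, σ x = x ^ q)
    (hUp : IsPGroup r (spS σ).U) (hidx : ¬ r ∣ (spS σ).U.index) [Fintype (S σ)] {γ : Fˣ}
    {f : (spS σ).B →* ℂˣ} (hγ : ∀ x, x ∈ Subgroup.zpowers γ)
    (hfU : ∀ b : (spS σ).B, (b : S σ) ∈ (spS σ).U → f b = 1) (hf3 : ∀ b, f b ^ 3 = 1)
    (hf1 : f ⟨g0 σ γ, (spS σ).TB (g0_mem γ)⟩ ≠ 1) (φ : MulAut (S σ)) (g : S σ) :
    (spS σ).ps f (φ (φ g)) = (spS σ).ps f g := by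
  classical
  obtain ⟨h, H⟩ := exists_hs (σ := σ) hF hq hs
  -- Sylow
  let Q : Sylow r (S σ) := hUp.toSylow hidx
  have hQ : ∀ x, x ∈ Q ↔ x ∈ (spS σ).U := fun x => Iff.rfl
  have hUp' : IsPGroup r ((spS σ).U.map (φ : S σ →* S σ)) := hUp.map _
  obtain ⟨Q', hQ'⟩ := hUp'.exists_le_sylow
  obtain ⟨c, hc⟩ := MulAction.exists_smul_eq (S σ) Q Q'
  have hcU : ∀ u ∈ (spS σ).U, c⁻¹ * φ u * c ∈ (spS σ).U := by
    intro u hu
    have h1 : φ u ∈ (Q' : Subgroup (S σ)) := hQ' ⟨u, hu, rfl⟩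
    rw [← hc] at h1
    have h2 : φ u ∈ (MulAut.conj c • (Q : Subgroup (S σ))) := h1
    rw [Subgroup.mem_pointwise_smul_iff_inv_smul_mem] at h2
    have h3 : (MulAut.conj c)⁻¹ • φ u = c⁻¹ * φ u * c := by
      rw [← map_inv]
      show c⁻¹ * φ u * c⁻¹⁻¹ = _
      rw [inv_inv]
    rw [h3] at h2
    exact h2
  let φ' : S σ →* S σ := ((MulAut.conj c⁻¹ : MulAut (S σ)) : S σ →* S σ).comp (φ : S σ →* S σ)
  have hφ' : ∀ x, φ' x = c⁻¹ * φ x * c := fun x => by
    show c⁻¹ * φ x * c⁻¹⁻¹ = _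
    rw [inv_inv]
  have hinj : Function.Injective φ' := fun a b hab => by
    rw [hφ', hφ'] at hab
    exact φ.injective (mul_left_cancel (mul_right_cancel hab))
  have hU1 : ∀ u ∈ (spS σ).U, φ' u ∈ (spS σ).U := fun u hu => by rw [hφ']; exact hcU u hu
  have hUs : ∀ u ∈ (spS σ).U, ∃ v ∈ (spS σ).U, φ' v = u := by
    intro u hu
    let k : (spS σ).U → (spS σ).U := fun v => ⟨φ' v, hU1 v v.2⟩
    have hk : Function.Injective k := fun a b hab => Subtype.ext (hinj (congrArg Subtype.val hab))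
    obtain ⟨v, hv⟩ := (Finite.injective_iff_surjective.1 hk) ⟨u, hu⟩
    exact ⟨v, v.2, congrArg Subtype.val hv⟩
  have hB1 : ∀ b ∈ (spS σ).B, φ' b ∈ (spS σ).B := by
    intro b hb
    refine H.mem_B fun u hu => ?_
    obtain ⟨v, hv, rfl⟩ := hUs u hu
    rw [← map_inv, ← map_mul, ← map_mul]
    exact hU1 _ ((spS σ).nU b hb v hv)
  let φB : (spS σ).B →* (spS σ).B := (φ'.comp (spS σ).B.subtype).codRestrict _ fun b => hB1 b b.2
  have hφB : ∀ b : (spS σ).B, ((φB b : (spS σ).B) : S σ) = φ' b := fun b => rfl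
  have hBinj : Function.Injective φB := fun a b hab => Subtype.ext (hinj (congrArg Subtype.val hab))
  have hBs : Function.Surjective φB := Finite.injective_iff_surjective.1 hBinj
  let g0' : (spS σ).B := ⟨g0 σ γ, (spS σ).TB (g0_mem γ)⟩
  -- the character is determined by its value at `g0'`
  have hgen : ∀ b : (spS σ).B, ∃ j : ℕ, f b = f g0' ^ j ∧ f (φB b) = f (φB g0') ^ j := by
    rintro ⟨b, hb⟩
    obtain ⟨u, hu, t, ht, rfl⟩ := (spS σ).dec b hb
    obtain ⟨j, rfl⟩ := T_gen hγ ht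
    have h1 : (⟨u * g0 σ γ ^ j, hb⟩ : (spS σ).B) = ⟨u, (spS σ).UB hu⟩ * g0' ^ j :=
      Subtype.ext (by push_cast; rfl)
    refine ⟨j, ?_, ?_⟩
    · rw [h1, map_mul, hfU _ hu, one_mul, map_pow]
    · rw [h1, map_mul, map_mul, hfU (φB ⟨u, (spS σ).UB hu⟩) (hU1 u hu), one_mul, map_pow, map_pow]
  -- cube roots of unity
  have hroot : ∀ x : ℂˣ, x ^ 3 = 1 → x = 1 ∨ x = f g0' ∨ x = f g0' ^ 2 := by
    intro x hx
    have hw3 : ((f g0' : ℂˣ) : ℂ) ^ 3 = 1 := by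
      rw [← Units.val_pow_eq_pow_val, hf3, Units.val_one]
    have hw1 : ((f g0' : ℂˣ) : ℂ) ≠ 1 := fun h1 => hf1 (Units.ext h1)
    have hx3 : (x : ℂ) ^ 3 = 1 := by
      rw [← Units.val_pow_eq_pow_val, hx, Units.val_one]
    set w := ((f g0' : ℂˣ) : ℂ) with hw
    have hw2 : 1 + w + w ^ 2 = 0 := by
      have h1 : (w - 1) * (1 + w + w ^ 2) = 0 := by linear_combination hw3
      exact (mul_eq_zero.1 h1).resolve_left (sub_ne_zero.2 hw1)
    have h2 : ((x : ℂ) - 1) * (((x : ℂ) - w) * ((x : ℂ) - w ^ 2)) = 0 := by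
      linear_combination hx3 - (x : ℂ) ^ 2 * hw2 + (x : ℂ) * hw2 + (x : ℂ) * hw3 - hw3
    rcases mul_eq_zero.1 h2 with h3 | h3
    · exact Or.inl (Units.ext (sub_eq_zero.1 h3))
    · rcases mul_eq_zero.1 h3 with h4 | h4
      · exact Or.inr (Or.inl (Units.ext (sub_eq_zero.1 h4)))
      · refine Or.inr (Or.inr (Units.ext ?_))
        rw [Units.val_pow_eq_pow_val]
        exact sub_eq_zero.1 h4
  have hff : ∀ b : (spS σ).B, f (φB (φB b)) = f b := by
    rcases hroot _ (hf3 (φB g0')) with h1 | h1 | h1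
    · exfalso
      obtain ⟨b, hb⟩ := hBs g0'
      obtain ⟨j, -, h2⟩ := hgen b
      rw [hb, h1, one_pow] at h2
      exact hf1 h2
    · have h2 : ∀ b, f (φB b) = f b := fun b => by
        obtain ⟨j, h3, h4⟩ := hgen b
        rw [h4, h1, h3]
      intro b
      rw [h2, h2]
    · have h2 : ∀ b, f (φB b) = f b ^ 2 := fun b => by
        obtain ⟨j, h3, h4⟩ := hgen b
        rw [h4, h1, h3, ← pow_mul, ← pow_mul, mul_comm]
      intro b
      rw [h2, h2, ← pow_mul]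
      show f b ^ (3 + 1) = f b
      rw [pow_succ, hf3, one_mul]
  have key := Cfsg.Agent.H112.HT.ind_inv (spS σ).B (fun b => ((f b : ℂˣ) : ℂ)) (φ * φ) (φ c * c) (fun b => by
    refine ⟨φB (φB b), ?_, by rw [hff]⟩
    show φ (φ (b : S σ)) = _
    rw [hφB, hφB, hφ', hφ', map_mul, map_mul, map_inv]
    group) g
  exact key

/-- invariance under automorphisms of odd order -/
theorem ps_odd {r : ℕ} [hr : Fact r.Prime] (hF : Fintype.card F = q ^ 2) (hq : 3 ≤ q) (hs : ∀ x, σ x = x ^ q)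
    (hUp : IsPGroup r (spS σ).U) (hidx : ¬ r ∣ (spS σ).U.index) [Fintype (S σ)] {γ : Fˣ}
    {f : (spS σ).B →* ℂˣ} (hγ : ∀ x, x ∈ Subgroup.zpowers γ)
    (hfU : ∀ b : (spS σ).B, (b : S σ) ∈ (spS σ).U → f b = 1) (hf3 : ∀ b, f b ^ 3 = 1)
    (hf1 : f ⟨g0 σ γ, (spS σ).TB (g0_mem γ)⟩ ≠ 1) (φ : MulAut (S σ)) {n : ℕ} (hn : φ ^ (2 * n + 1) = 1) (g : S σ) :
    (spS σ).ps f (φ g) = (spS σ).ps f g := by
  have h1 : φ = φ ^ (n + 1) * φ ^ (n + 1) := by
    rw [← pow_add, show n + 1 + (n + 1) = (2 * n + 1) + 1 by ring, pow_succ, hn, one_mul]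
  have h2 := ps_sq hF hq hs hUp hidx hγ hfU hf3 hf1 (φ ^ (n + 1)) g
  rw [← MulAut.mul_apply, ← h1] at h2
  exact h2

/-- the two constituents are invariant -/
theorem inv_of_sum {G : Type} [Group G] [Fintype G] {Φ : G → ℂ} {α β : IrrCharacter G} (h : Φ = (α : G → ℂ) + (β : G → ℂ))
    (hne : charDegree (α : G → ℂ) ≠ charDegree (β : G → ℂ)) (φ : MulAut G) (hφ : ∀ g, Φ (φ g) = Φ g) :
    (∀ g, (α : G → ℂ) (φ g) = (α : G → ℂ) g) ∧ (∀ g, (β : G → ℂ) (φ g) = (β : G → ℂ) g) := by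
  classical
  have hα : IsIrrCharacter G ((α : G → ℂ) ∘ (φ : G →* G)) := Characters.Core.isIrr_comp (φ : G →* G) φ.surjective α.2
  have hβ : IsIrrCharacter G ((β : G → ℂ) ∘ (φ : G →* G)) := Characters.Core.isIrr_comp (φ : G →* G) φ.surjective β.2
  have e1 : charDegree ((α : G → ℂ) ∘ (φ : G →* G)) = charDegree (α : G → ℂ) := by
    unfold charDegree
    rw [Function.comp_apply, map_one]
  have e2 : charDegree ((β : G → ℂ) ∘ (φ : G →* G)) = charDegree (β : G → ℂ) := by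
    unfold charDegree
    rw [Function.comp_apply, map_one]
  have hsum : (α : G → ℂ) + (β : G → ℂ) = (α : G → ℂ) ∘ (φ : G →* G) + (β : G → ℂ) ∘ (φ : G →* G) := by
    rw [← h]
    funext g
    rw [Pi.add_apply, Function.comp_apply, Function.comp_apply, ← hφ g, h]
    rfl
  have hab : (α : G → ℂ) ≠ (β : G → ℂ) := fun h1 => hne (by rw [h1])
  have key : ∀ {x y x' y' : G → ℂ}, IsIrrCharacter G x → IsIrrCharacter G y → IsIrrCharacter G x' →
      IsIrrCharacter G y' → x + y = x' + y' → x ≠ y → charDegree x' = charDegree x → charDegree x ≠ charDegree y →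
      x' = x := by
    intro x y x' y' hx hy hx' hy' hs hxy hd hdd
    by_contra hno
    have h1 : classInner (x + y) x' = 0 := by
      rw [Characters.Core.classInner_add_left, Characters.Core.classInner_irr_ne hx hx' (Ne.symm hno),
        Characters.Core.classInner_irr_ne hy hx' (fun h2 => hdd (by rw [h2, hd])), add_zero]
    rw [hs, Characters.Core.classInner_add_left, Characters.Core.classInner_irr_self hx'] at h1
    obtain ⟨k, hk⟩ := Characters.Core.classInner_isNat (Characters.Core.isIrr_isCharacter hy')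
      (Characters.Core.isIrr_isCharacter hx')
    rw [hk] at h1
    have : 1 + k = 0 := by exact_mod_cast h1
    omega
  have h1 := key α.2 β.2 hα hβ hsum hab e1 hne
  have h2 := key β.2 α.2 hβ hα (by rw [add_comm, hsum, add_comm]) (Ne.symm hab) e2 (Ne.symm hne)
  exact ⟨fun g => congrFun h1 g, fun g => congrFun h2 g⟩

/-- **The character.** -/
theorem exists_psi (hF : Fintype.card F = q ^ 2) (h9 : 9 ∣ q + 1) (hs : ∀ x, σ x = x ^ q) {M : Ideal AlgInt}
    (hM : IsPModular 3 M) : ∃ ψ : IrrCharacter (S σ), ψ ∈ principalBlock M (S σ) ∧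
      (charDegree (ψ : S σ → ℂ)).factorization 3 = 1 ∧
      ∀ (φ : MulAut (S σ)) (n : ℕ), φ ^ (2 * n + 1) = 1 → ∀ g, (ψ : S σ → ℂ) (φ g) = (ψ : S σ → ℂ) g := by
  classical
  have hq : 3 ≤ q := by
    have := Nat.le_of_dvd (by omega) h9
    omega
  have := Fintype.ofFinite (S σ)
  have h3 : Fact (Nat.Prime 3) := ⟨Nat.prime_three⟩
  -- the characteristic
  obtain ⟨r, hch⟩ := CharP.exists F
  have hr : Fact r.Prime := ⟨(CharP.char_is_prime_or_zero F r).resolve_right (CharP.char_ne_zero_of_finite F r)⟩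
  obtain ⟨f0, hf0, hqf⟩ : ∃ f0 : ℕ, 1 ≤ f0 ∧ q = r ^ f0 := by
    obtain ⟨m, -, hm⟩ := FiniteField.card F r
    have h1 : q ∣ r ^ (m : ℕ) := by
      rw [← hm, hF, sq]
      exact Dvd.intro _ rfl
    obtain ⟨f, -, hf⟩ := (Nat.dvd_prime_pow hr.out).1 h1
    refine ⟨f, ?_, hf⟩
    by_contra h0
    have : f = 0 := by omega
    rw [this, pow_zero] at hf
    omega
  have cU := card_US (σ := σ) hF hs
  have hrq : r ∣ q := by rw [hqf]; exact dvd_pow_self r (by omega)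
  have hUp : IsPGroup r (spS σ).U := IsPGroup.of_card (n := f0 * 3) (by rw [cU, hqf, ← pow_mul])
  have hidx : ¬ r ∣ (spS σ).U.index := by
    intro h1
    have h2 : (spS σ).U.index = Nat.card (spS σ).T * (q ^ 3 + 1) := by
      have h3 := (spS σ).U.card_mul_index
      have h4 := (spS σ).card_G
      rw [(spS σ).card_B, cU] at h4
      rw [h4, cU] at h3
      have h5 : 0 < q ^ 3 := by positivity
      apply Nat.eq_of_mul_eq_mul_left h5
      rw [h3]
      ring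
    rw [h2] at h1
    rcases hr.out.dvd_mul.1 h1 with h3 | h3
    · have h4 := h3.trans (card_TS (σ := σ) hF hs)
      have h5 : r ∣ q ^ 2 := hrq.trans (dvd_pow_self q (by norm_num))
      have h6 : 1 ≤ q ^ 2 := Nat.one_le_pow _ _ (by omega)
      have h7 : r ∣ q ^ 2 - (q ^ 2 - 1) := Nat.dvd_sub h5 h4
      rw [Nat.sub_sub_self h6] at h7
      exact hr.out.one_lt.ne' (Nat.dvd_one.1 h7)
    · have h5 : r ∣ q ^ 3 := hrq.trans (dvd_pow_self q (by norm_num))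
      have h7 : r ∣ 1 := (Nat.dvd_add_right h5).1 h3
      exact hr.out.one_lt.ne' (Nat.dvd_one.1 h7)
  obtain ⟨γ, f, hγ, hfU, hf3, hf1, α, β, hsum, hα, hβ⟩ := exists_dec (σ := σ) hF h9 hs
  have hne : charDegree (α : S σ → ℂ) ≠ charDegree (β : S σ → ℂ) := by
    rw [hα, hβ]
    intro h1
    have h2 : 0 < q ^ 2 - q + 1 := by omega
    have h3 : 1 * (q ^ 2 - q + 1) = q * (q ^ 2 - q + 1) := by rw [one_mul]; exact h1
    have := Nat.eq_of_mul_eq_mul_right h2 h3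
    omega
  -- the degree
  obtain ⟨k, hk⟩ := h9
  have hsq : q ≤ q ^ 2 := Nat.le_self_pow (by norm_num) q
  have hd : q ^ 2 - q + 1 = 3 * (27 * k ^ 2 - 9 * k + 1) := by
    have hk1 : 1 ≤ k := by
      by_contra h0
      have : k = 0 := by omega
      subst this
      omega
    have h1 : q = 9 * k - 1 := by omega
    have h4 : 9 * k ≤ 27 * k ^ 2 := by nlinarith
    zify [hsq, h4]
    have h5 : (q : ℤ) = 9 * k - 1 := by
      have : ((q + 1 : ℕ) : ℤ) = ((9 * k : ℕ) : ℤ) := by rw [hk]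
      push_cast at this
      linarith
    rw [h5]
    ring
  have h3d : ¬ 3 ∣ 27 * k ^ 2 - 9 * k + 1 := by
    intro h1
    have h2 : 3 ∣ 27 * k ^ 2 - 9 * k := Nat.dvd_sub ⟨9 * k ^ 2, by ring⟩ ⟨3 * k, by ring⟩
    have h4 : 3 ∣ 1 := (Nat.dvd_add_right h2).1 h1
    norm_num at h4
  have hq3 : ¬ 3 ∣ q := by
    intro h1
    have h2 : 3 ∣ q + 1 := ⟨3 * k, by rw [hk]; ring⟩
    have h4 : 3 ∣ 1 := (Nat.dvd_add_right h1).1 h2
    norm_num at h4
  have hv : (q ^ 2 - q + 1).factorization 3 = 1 := by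
    rw [hd, Nat.factorization_mul (by norm_num) (by omega), Finsupp.add_apply,
      Nat.factorization_eq_zero_of_not_dvd h3d, Nat.Prime.factorization_self Nat.prime_three]
  have hv2 : (q * (q ^ 2 - q + 1)).factorization 3 = 1 := by
    rw [Nat.factorization_mul (by omega) (by omega), Finsupp.add_apply, hv, Nat.factorization_eq_zero_of_not_dvd hq3]
  have hinv : ∀ (φ : MulAut (S σ)) (n : ℕ), φ ^ (2 * n + 1) = 1 → ∀ g, (spS σ).ps f (φ g) = (spS σ).ps f g :=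
    fun φ n hn g => ps_odd hF hq hs hUp hidx hγ hfU hf3 hf1 φ hn g
  have := Fintype.ofFinite (spS σ).B
  obtain ⟨χ, hχ, hχ0⟩ := Cfsg.Agent.H112.HT.exists_mem_ind (p := 3) hM (spS σ).B f ⟨1, by
    ext b
    rw [pow_one, MonoidHom.pow_apply, hf3, MonoidHom.one_apply]⟩
  have hχ1 : classInner ((α : S σ → ℂ) + (β : S σ → ℂ)) (χ : S σ → ℂ) ≠ 0 := by
    rw [← hsum]
    exact hχ0
  have hχ2 : χ = α ∨ χ = β := by
    by_contra hno
    push Not at hno
    apply hχ1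
    rw [Characters.Core.classInner_add_left,
      Characters.Core.classInner_irr_ne α.2 χ.2 (fun h1 => hno.1 (Subtype.ext h1).symm),
      Characters.Core.classInner_irr_ne β.2 χ.2 (fun h1 => hno.2 (Subtype.ext h1).symm), add_zero]
  rcases hχ2 with rfl | rfl
  · exact ⟨χ, hχ, by rw [hα]; exact hv, fun φ n hn => (inv_of_sum hsum hne φ (hinv φ n hn)).1⟩
  · exact ⟨χ, hχ, by rw [hβ]; exact hv2, fun φ n hn => (inv_of_sum hsum hne φ (hinv φ n hn)).2⟩

end chr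

end Cfsg.Agent.H408.HT
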