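import Cfsg.Agent.H408.HT.U3Chr
import Cfsg.Agent.H408.HT.U3Own
import Cfsg.Agent.H408.HT.Ext2
import Cfsg.Agent.H681.IP.Row
import Cfsg.Agent.S2603

/-!
# S4933: `PSU_3(q)`, `p = 3`, `9 ∣ q + 1` (helper408), from helper24's lemma for `a = 1`

* `ThreeLemma` : the lemma on Sylow `3`-subgroups of the groups over `PSU_3(q)` all whose degrees are `1` or `3`;
* `psu_nine_of` : the row from `ThreeLemma`.
-/

set_option autoImplicit false

open Cfsg Subgroup Cfsg.Agent.H316.HT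
open Cfsg.Agent.H664.R1 Cfsg.Agent.H664.R1.U3

namespace Cfsg.Agent.H408.HT

/-- the statement of the lemma -/
def ThreeLemma (F : Type) [Field F] (q : ℕ) : Prop :=
  ∀ (A : Type) [Group A] [Finite A] (N : Subgroup A) [N.Normal], (N ≃* PSU 3 F q) →
    Subgroup.centralizer (N : Set A) = ⊥ → ∀ P : Sylow 3 A, H681.IP.TD 3 1 (P : Subgroup A) →
    ∀ y ∈ (P : Subgroup A), y ∉ N → ∀ z ∈ (P : Subgroup A), z ∈ N ∨ z * y ∈ N ∨ z * y⁻¹ ∈ N

theorem psu_nine_of (F : Type) [Field F] [Fintype F] (q : ℕ) (hF : Fintype.card F = q ^ 2) (h9 : 9 ∣ q + 1)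
    (h3 : ThreeLemma F q) : Row 3 (PSU 3 F q) := by
  classical
  have hp3 : Fact (Nat.Prime 3) := ⟨Nat.prime_three⟩
  have hq : 3 ≤ q := by
    have := Nat.le_of_dvd (by omega) h9
    omega
  intro A _ _ N hNn ⟨e⟩ hC M hM P a ha hcd
  obtain ⟨σ, hfact, hs, ⟨e0⟩⟩ := exists_iso (F := F) hF
  obtain ⟨ψ₀, hψ₀, hv, hinv₀⟩ := exists_psi (σ := σ) hF h9 hs hM
  let e1 : N ≃* S σ := e.trans e0
  let ψ : IrrCharacter N := ⟨fun y => (ψ₀ : S σ → ℂ) (e1 y), Characters.Core.isIrr_comp e1.toMonoidHom e1.surjective ψ₀.2⟩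
  have hMp : M.IsPrime := hM.2.1.isPrime
  have hψ : ψ ∈ principalBlock M N := H133.PB.mem_principalBlock_comp e1.toMonoidHom e1.surjective hψ₀
  have hvd : vd 3 (ψ : N → ℂ) = 1 := by
    have h1 : charDegree (ψ : N → ℂ) = charDegree (ψ₀ : S σ → ℂ) := by
      unfold charDegree
      have h2 : (ψ : N → ℂ) 1 = (ψ₀ : S σ → ℂ) 1 := by
        change (ψ₀ : S σ → ℂ) (e1 1) = _
        rw [map_one]
      rw [h2]
    unfold vd
    rw [h1, hv]
  have hinv : ∀ x ∈ (P : Subgroup A), ∀ n : N,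
      (ψ : N → ℂ) ⟨x * n * x⁻¹, hNn.conj_mem (n : A) n.2 x⟩ = (ψ : N → ℂ) n := by
    intro x hx n
    obtain ⟨k, hk⟩ := P.2 ⟨x, hx⟩
    have hk' : x ^ 3 ^ k = 1 := congrArg Subtype.val hk
    obtain ⟨m, hm⟩ : Odd (3 ^ k) := Odd.pow (by decide)
    have h1 : (H112.HT.act N e1 x) ^ (2 * m + 1) = 1 := by
      rw [← map_pow, ← hm, hk', map_one]
    have h2 := hinv₀ (H112.HT.act N e1 x) m h1 (e1 n)
    rw [H112.HT.act_apply] at h2
    have h4 : (⟨x * ((e1.symm (e1 n) : N) : A) * x⁻¹, hNn.conj_mem _ (e1.symm (e1 n)).2 x⟩ : N) =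
        ⟨x * n * x⁻¹, hNn.conj_mem (n : A) n.2 x⟩ := by
      apply Subtype.ext
      rw [MulEquiv.symm_apply_apply]
    rw [h4] at h2
    exact h2
  rcases Nat.lt_or_ge 1 a with h1 | h1
  · -- `a ≥ 2`
    obtain ⟨r, hch⟩ := CharP.exists F
    have hr : Fact r.Prime := ⟨(CharP.char_is_prime_or_zero F r).resolve_right (CharP.char_ne_zero_of_finite F r)⟩
    obtain ⟨f, hf, hqf⟩ := exists_f (p := r) hF
    obtain ⟨φ, -, -, hk⟩ := S2603.result hf hqf hF (le_refl 3) (by omega)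
    have h2 : Nat.gcd 3 (q + 1) = 3 := Nat.gcd_eq_left (Dvd.dvd.trans (by norm_num) h9)
    rw [h2] at hk
    have : Finite φ.ker := Nat.finite_of_card_ne_zero (by rw [hk]; norm_num)
    have hcyc : IsCyclic (Multiplicative (ZMod (2 * f))) := inferInstance
    exact goodOn_two hM N P (H112.HT.toOut N e) (H112.HT.ker_toOut N e hC) φ (by rw [hk]; norm_num) ψ hψ
      (by omega) (by omega) hinv
  · -- `a = 1`
    have ha1 : a = 1 := by omega
    subst ha1
    have hlem := h3 A N e hC P (H681.IP.TD.of_CD hcd)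
    refine H719.HT.crit 3 hp3 A N M hM P ?_ 1 ψ hψ (by omega) (by omega) hinv
    refine H695.LB.Ext.cyc_sup N (P : Subgroup A) ?_
    by_cases hPN : ∀ y ∈ (P : Subgroup A), y ∈ N
    · have hsub : Subsingleton (↥(P : Subgroup A) ⧸ N.subgroupOf (P : Subgroup A)) := by
        constructor
        intro x y
        obtain ⟨x, rfl⟩ := QuotientGroup.mk_surjective x
        obtain ⟨y, rfl⟩ := QuotientGroup.mk_surjective y
        refine QuotientGroup.eq.2 ?_
        exact mem_subgroupOf.2 (hPN _ (x⁻¹ * y).2)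
      exact isCyclic_of_subsingleton
    · push Not at hPN
      obtain ⟨y, hy, hyN⟩ := hPN
      refine isCyclic_iff_exists_zpowers_eq_top.2
        ⟨((⟨y, hy⟩ : (P : Subgroup A)) : ↥(P : Subgroup A) ⧸ N.subgroupOf (P : Subgroup A)), ?_⟩
      rw [eq_top_iff]
      rintro z -
      obtain ⟨z, rfl⟩ := QuotientGroup.mk_surjective z
      rcases hlem y hy hyN z z.2 with h4 | h4 | h4
      · have h5 : ((z : ↥(P : Subgroup A)) : ↥(P : Subgroup A) ⧸ N.subgroupOf (P : Subgroup A)) = 1 :=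
          (QuotientGroup.eq_one_iff _).2 (mem_subgroupOf.2 h4)
        rw [h5]
        exact one_mem _
      · have h5 : ((z * ⟨y, hy⟩ : ↥(P : Subgroup A)) : ↥(P : Subgroup A) ⧸ N.subgroupOf (P : Subgroup A)) = 1 :=
          (QuotientGroup.eq_one_iff _).2 (mem_subgroupOf.2 h4)
        rw [QuotientGroup.mk_mul, mul_eq_one_iff_eq_inv] at h5
        rw [h5]
        exact inv_mem (mem_zpowers _)
      · have h5 : ((z * (⟨y, hy⟩ : ↥(P : Subgroup A))⁻¹ : ↥(P : Subgroup A)) : ↥(P : Subgroup A) ⧸ N.subgroupOf (P : Subgroup A)) = 1 :=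
          (QuotientGroup.eq_one_iff _).2 (mem_subgroupOf.2 h4)
        rw [QuotientGroup.mk_mul, QuotientGroup.mk_inv, mul_inv_eq_one] at h5
        rw [h5]
        exact mem_zpowers _

end Cfsg.Agent.H408.HT
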